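import Cfsg.Agent.GraphInv.Sim
import Cfsg.Agent.Forms.Classify
import Cfsg.Agent.Forms.OfBilin
import Cfsg.Agent.Classical.SymplecticBasic
import Mathlib.LinearAlgebra.Matrix.BilinearForm

/-!
Congruence classes of symmetric and of skew matrices over a finite field.
-/

set_option autoImplicit false
set_option linter.unusedSectionVars false

open Matrix

namespace CfsgLib.GraphInv

variable {F : Type*} [Field F] {ι : Type} [Fintype ι] [DecidableEq ι] {m : ℕ}

/-- An invertible matrix from a basis, by columns. -/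
theorem exists_gl_of_basis {κ : Type} [Fintype κ] (e : κ ≃ ι) (b : Module.Basis κ F (ι → F)) :
    ∃ P : GL ι F, ∀ a i, (P : Matrix ι ι F) a i = b (e.symm i) a := by
  let b' := b.reindex e
  have := (Pi.basisFun F ι).invertibleToMatrix b'
  refine ⟨unitOfInvertible ((Pi.basisFun F ι).toMatrix b'), fun a i => ?_⟩
  simp [b', Module.Basis.toMatrix_apply]

theorem congr_apply (S : Matrix ι ι F) (P : Matrix ι ι F) (i j : ι) :
    (Pᵀ * S * P) i j = (fun a => P a i) ⬝ᵥ (S *ᵥ fun a => P a j) := by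
  rw [mul_assoc]
  rfl

theorem congr_mulVec (S P : Matrix ι ι F) (u v : ι → F) :
    u ⬝ᵥ ((Pᵀ * S * P) *ᵥ v) = (P *ᵥ u) ⬝ᵥ (S *ᵥ (P *ᵥ v)) := by
  rw [← mulVec_mulVec, ← mulVec_mulVec, dotProduct_mulVec, vecMul_transpose]

/-! ### Odd characteristic -/

section OddChar

variable [Finite F] (h2 : (2 : F) ≠ 0)
include h2

theorem exists_diag {α : F} (hα : ¬IsSquare α) {S : Matrix ι ι F} (hsym : Sᵀ = S) (hdet : S.det ≠ 0)
    (i₀ : ι) :
    ∃ (P : GL ι F) (δ : F), (δ = 1 ∨ δ = α) ∧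
      (P : Matrix ι ι F)ᵀ * S * (P : Matrix ι ι F) = Matrix.diagonal (Function.update 1 i₀ δ) := by
  have : Nonempty ι := ⟨i₀⟩
  obtain ⟨k, hk⟩ : ∃ k, Fintype.card ι = k + 1 := Nat.exists_eq_add_of_le' Fintype.card_pos
  let B : LinearMap.BilinForm F (ι → F) := Matrix.toBilin' S
  have hS : B.IsSymm := ⟨fun u v => by
    show Matrix.toBilin' S u v = Matrix.toBilin' S v u
    rw [Matrix.toBilin'_apply', Matrix.toBilin'_apply', dotProduct_mulVec, ← mulVec_transpose, hsym,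
      dotProduct_comm]⟩
  obtain ⟨b, hb1, hb2, hb3⟩ := CfsgLib.Forms.exists_symm_basis h2 hα k (ι → F) B hS
    (LinearMap.BilinForm.nondegenerate_toBilin'_of_det_ne_zero' S hdet) (by rw [Module.finrank_pi, hk])
  let e0 : Fin (k + 1) ≃ ι := (Fintype.equivFinOfCardEq hk).symm
  let e : Fin (k + 1) ≃ ι := e0.trans (Equiv.swap (e0 (Fin.last k)) i₀)
  have he : e (Fin.last k) = i₀ := by simp [e]
  obtain ⟨P, hP⟩ := exists_gl_of_basis e b
  have hBb : ∀ i j, ((P : Matrix ι ι F)ᵀ * S * (P : Matrix ι ι F)) i j = B (b (e.symm i)) (b (e.symm j)) := by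
    intro i j
    rw [congr_apply, show B = Matrix.toBilin' S from rfl, Matrix.toBilin'_apply']
    congr 1
    · exact funext fun a => hP a i
    · exact congrArg _ (funext fun a => hP a j)
  refine ⟨P, B (b (Fin.last k)) (b (Fin.last k)), hb3, ?_⟩
  ext i j
  rw [hBb]
  rcases eq_or_ne i j with rfl | hij
  · rw [Matrix.diagonal_apply_eq]
    rcases eq_or_ne i i₀ with rfl | hi
    · rw [Function.update_self, show e.symm i = Fin.last k by rw [Equiv.symm_apply_eq, he]]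
    · rw [Function.update_of_ne hi, Pi.one_apply]
      exact hb2 _ fun h => hi (by rw [← he, ← h, e.apply_symm_apply])
  · rw [Matrix.diagonal_apply_ne _ hij]
    exact hb1 _ _ fun h => hij (e.symm.injective h)

/-- Symmetric matrices with determinants in one square class are congruent. -/
theorem cong_of_isSquare_det {S T : Matrix ι ι F} (hS : Sᵀ = S) (hT : Tᵀ = T) (hS0 : S.det ≠ 0)
    (hT0 : T.det ≠ 0) (hsq : IsSquare (S.det * T.det)) : Cong S T := by
  cases nonempty_fintype F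
  rcases isEmpty_or_nonempty ι with h | ⟨⟨i₀⟩⟩
  · rw [Subsingleton.elim S T]; exact Cong.refl T
  obtain ⟨α, hα⟩ := FiniteField.exists_nonsquare (F := F) (by
    intro hchar
    have := ringChar.charP F
    rw [hchar] at this
    exact h2 (CharTwo.two_eq_zero))
  obtain ⟨P, δ, hδ, eP⟩ := exists_diag h2 hα hS hS0 i₀
  obtain ⟨R, δ', hδ', eR⟩ := exists_diag h2 hα hT hT0 i₀
  have hd : ∀ x : F, (Matrix.diagonal (Function.update (1 : ι → F) i₀ x)).det = x := fun x => by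
    rw [det_diagonal, Finset.prod_update_of_mem (Finset.mem_univ i₀)]
    simp
  have hdS := congrArg Matrix.det eP
  have hdT := congrArg Matrix.det eR
  rw [det_mul, det_mul, det_transpose, hd] at hdS hdT
  obtain ⟨r, hr⟩ := hsq
  have hsq' : IsSquare (δ * δ') :=
    ⟨(P : Matrix ι ι F).det * (R : Matrix ι ι F).det * r, by
      rw [← hdS, ← hdT]
      linear_combination ((P : Matrix ι ι F).det ^ 2 * (R : Matrix ι ι F).det ^ 2) * hr⟩
  have hδδ : δ = δ' := by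
    rcases hδ with rfl | rfl <;> rcases hδ' with rfl | rfl
    · rfl
    · exact absurd (one_mul δ' ▸ hsq') hα
    · exact absurd (mul_one δ ▸ hsq') hα
    · rfl
  subst hδδ
  refine Cong.trans ⟨P, 1, ?_⟩ (Cong.symm ⟨R, 1, ?_⟩ : Cong (Matrix.diagonal (Function.update 1 i₀ δ)) T)
  · rw [Units.val_one, one_smul, eP]
  · rw [Units.val_one, one_smul, eR]

/-- In odd dimension all symmetric matrices are congruent up to scalars. -/
theorem cong_symm_odd {S T : Matrix ι ι F} (hS : Sᵀ = S) (hT : Tᵀ = T) (hS0 : S.det ≠ 0)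
    (hT0 : T.det ≠ 0) (hn : Odd (Fintype.card ι)) : Cong S T := by
  let c : Fˣ := Units.mk0 (S.det * T.det) (mul_ne_zero hS0 hT0)
  have hT' : ((c : F) • T).det = (c : F) ^ Fintype.card ι * T.det := det_smul _ _
  refine (cong_of_isSquare_det h2 hS (by rw [transpose_smul, hT]) hS0
    (by rw [hT']; exact mul_ne_zero (pow_ne_zero _ c.ne_zero) hT0) ?_).trans (Cong.of_smul c rfl)
  obtain ⟨k, hk⟩ := hn
  refine ⟨(S.det * T.det) ^ (k + 1), ?_⟩
  rw [hT', hk, Units.val_mk0]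
  ring

end OddChar

/-! ### Alternating matrices -/

/-- Skew with zero diagonal. -/
def IsAltM (S : Matrix ι ι F) : Prop := Sᵀ = -S ∧ ∀ i, S i i = 0

theorem IsAltM.self_eq_zero {S : Matrix ι ι F} (h : IsAltM S) (v : ι → F) : v ⬝ᵥ (S *ᵥ v) = 0 := by
  simp only [dotProduct, Matrix.mulVec, Finset.mul_sum]
  rw [← Finset.sum_product']
  refine Finset.sum_involution (fun p _ => (p.2, p.1)) ?_ ?_ (fun _ _ => Finset.mem_univ _) (fun _ _ => rfl)
  · intro p _
    have := congrFun (congrFun h.1 p.1) p.2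
    simp only [transpose_apply, Matrix.neg_apply] at this
    show v p.1 * (S p.1 p.2 * v p.2) + v p.2 * (S p.2 p.1 * v p.1) = 0
    rw [this]; ring
  · intro p _ hp hfix
    refine hp ?_
    have e : p.2 = p.1 := congrArg Prod.fst hfix
    rw [e, h.2]
    ring

theorem IsAltM.isAlt {S : Matrix ι ι F} (h : IsAltM S) : (Matrix.toBilin' S).IsAlt := fun v => by
  show Matrix.toBilin' S v v = 0
  rw [Matrix.toBilin'_apply']
  exact h.self_eq_zero v

theorem gram_symplectic {B : LinearMap.BilinForm F (ι → F)} (hB : B.IsAlt) {k n : ℕ}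
    {b : Module.Basis ((Fin k ⊕ Fin k) ⊕ Fin n) F (ι → F)}
    (h1 : ∀ i j : Fin k, B (b (Sum.inl (Sum.inl i))) (b (Sum.inl (Sum.inr j))) = if i = j then 1 else 0)
    (h2 : ∀ i j : Fin k, B (b (Sum.inl (Sum.inl i))) (b (Sum.inl (Sum.inl j))) = 0)
    (h3 : ∀ i j : Fin k, B (b (Sum.inl (Sum.inr i))) (b (Sum.inl (Sum.inr j))) = 0)
    (x y : Fin k ⊕ Fin k) : B (b (Sum.inl x)) (b (Sum.inl y)) = (-(Matrix.J (Fin k) F)) x y := by
  rcases x with x | x <;> rcases y with y | y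
  · simp [h2, Matrix.J]
  · simp [h1, Matrix.J, Matrix.one_apply]
  · rw [← LinearMap.IsAlt.neg hB (b (Sum.inl (Sum.inl y))) (b (Sum.inl (Sum.inr x))), h1]
    simp [Matrix.J, Matrix.one_apply, eq_comm]
  · simp [h3, Matrix.J]

/-- A symplectic basis of an invertible alternating matrix. -/
theorem exists_symplectic {S : Matrix ι ι F} (h : IsAltM S) (hdet : S.det ≠ 0) :
    ∃ (k : ℕ) (b : Module.Basis (Fin k ⊕ Fin k) F (ι → F)), ∀ x y, b x ⬝ᵥ (S *ᵥ b y) = (-(Matrix.J (Fin k) F)) x y := by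
  obtain ⟨k, r, b, h1, h2, h3, h4⟩ := CfsgLib.Forms.exists_symplectic_basis _ (ι → F) (Matrix.toBilin' S)
    h.isAlt rfl
  obtain rfl : r = 0 := by
    by_contra hr
    have hb := (LinearMap.BilinForm.nondegenerate_toBilin'_of_det_ne_zero' S hdet).1
      (b (Sum.inr ⟨0, Nat.pos_of_ne_zero hr⟩)) (h4 _)
    exact b.ne_zero _ hb
  refine ⟨k, b.reindex (Equiv.sumEmpty _ _), fun x y => ?_⟩
  rw [← Matrix.toBilin'_apply']
  simpa using gram_symplectic h.isAlt h1 h2 h3 x y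

theorem cong_alt {S : Matrix (Fin m ⊕ Fin m) (Fin m ⊕ Fin m) F} (h : IsAltM S) (hdet : S.det ≠ 0) :
    Cong S (Matrix.J (Fin m) F) := by
  obtain ⟨k, b, hb⟩ := exists_symplectic h hdet
  obtain rfl : k = m := by
    have := Module.finrank_eq_card_basis b
    rw [Module.finrank_pi] at this
    simp at this
    omega
  obtain ⟨P, hP⟩ := exists_gl_of_basis (Equiv.refl _) b
  refine ⟨P, -1, ?_⟩
  ext i j
  rw [congr_apply, show (fun a => (P : Matrix _ _ F) a i) = b i from funext fun a => hP a i,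
    show (fun a => (P : Matrix _ _ F) a j) = b j from funext fun a => hP a j, hb]
  simp

theorem det_eq_zero_of_alt_odd {S : Matrix ι ι F} (h : IsAltM S) (hn : Odd (Fintype.card ι)) :
    S.det = 0 := by
  by_contra hdet
  obtain ⟨k, b, -⟩ := exists_symplectic h hdet
  rw [← Module.finrank_pi F, Module.finrank_eq_card_basis b] at hn
  simp [Nat.odd_iff] at hn
  omega

theorem isAltM_J : IsAltM (Matrix.J (Fin m) F) :=
  ⟨Matrix.J_transpose _ _, fun i => by rcases i with i | i <;> simp [Matrix.J]⟩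

theorem isAltM_of_skew (h2 : (2 : F) ≠ 0) {S : Matrix ι ι F} (h : Sᵀ = -S) : IsAltM S := by
  refine ⟨h, fun i => ?_⟩
  have := congrFun (congrFun h i) i
  simp only [transpose_apply, Matrix.neg_apply] at this
  have h' : (2 : F) * S i i = 0 := by linear_combination this
  exact (mul_eq_zero.mp h').resolve_left h2

/-! ### Characteristic two -/

section CharTwoCase

variable [CharP F 2]

/-- `v S v` is a square of a linear function. -/
theorem self_eq_sq {S : Matrix ι ι F} (hsym : Sᵀ = S) {r : ι → F} (hr : ∀ i, r i ^ 2 = S i i) (v : ι → F) :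
    v ⬝ᵥ (S *ᵥ v) = (r ⬝ᵥ v) ^ 2 := by
  have hA : IsAltM (S - vecMulVec r r) := by
    refine ⟨?_, fun i => ?_⟩
    · rw [transpose_sub, transpose_vecMulVec, hsym]
      ext i j
      simp [CharTwo.neg_eq]
    · simp [vecMulVec_apply, ← hr i, pow_two]
  have := hA.self_eq_zero v
  rw [sub_mulVec, dotProduct_sub, vecMulVec_mulVec, sub_eq_zero] at this
  rw [this]
  simp [dotProduct_comm v r]
  ring

/-- The two shapes of a non-alternating symmetric matrix. -/
theorem exists_char_two_data [Finite F] {S : Matrix ι ι F} (hsym : Sᵀ = S) (hdet : S.det ≠ 0) :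
    ∃ (A : Matrix ι ι F) (r e : ι → F), IsAltM A ∧ S = A + vecMulVec r r ∧ S *ᵥ e = r ∧
      (r ⬝ᵥ e = 0 ∧ A.det ≠ 0 ∧ A *ᵥ e = r ∨
        r ⬝ᵥ e = 1 ∧ A *ᵥ e = 0 ∧ ∀ v, A *ᵥ v = 0 → v = (r ⬝ᵥ v) • e) := by
  choose r hr using fun i => ((Finite.injective_iff_bijective).mp (CharTwo.sq_injective (R := F))).2 (S i i)
  obtain ⟨e, he⟩ := (Matrix.mulVec_surjective_iff_isUnit.mpr
    ((Matrix.isUnit_iff_isUnit_det _).mpr (isUnit_iff_ne_zero.mpr hdet))) r
  have hinj := Matrix.mulVec_injective_iff_isUnit.mpr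
    ((Matrix.isUnit_iff_isUnit_det _).mpr (isUnit_iff_ne_zero.mpr hdet))
  set A := S - vecMulVec r r with hA
  have halt : IsAltM A := by
    refine ⟨?_, fun i => ?_⟩
    · rw [hA, transpose_sub, transpose_vecMulVec, hsym]
      ext i j
      simp [CharTwo.neg_eq]
    · simp [hA, vecMulVec_apply, ← hr i, pow_two]
  have hAv : ∀ v, A *ᵥ v = S *ᵥ v - (r ⬝ᵥ v) • r := fun v => by
    rw [hA, sub_mulVec, vecMulVec_mulVec]
    simp
  have hker : ∀ v, A *ᵥ v = 0 → v = (r ⬝ᵥ v) • e := fun v hv => by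
    refine hinj ?_
    show S *ᵥ v = S *ᵥ ((r ⬝ᵥ v) • e)
    rw [mulVec_smul, he, ← sub_eq_zero, ← hAv, hv]
  refine ⟨A, r, e, halt, by rw [hA]; abel, he, ?_⟩
  have hs : (r ⬝ᵥ e) ^ 2 = r ⬝ᵥ e := by
    rw [← self_eq_sq hsym hr, he, dotProduct_comm]
  have h01 : r ⬝ᵥ e = 0 ∨ r ⬝ᵥ e = 1 := by
    rcases eq_or_ne (r ⬝ᵥ e) 0 with h | h
    · exact Or.inl h
    · exact Or.inr (mul_left_cancel₀ h (by rw [← pow_two, hs, mul_one]))
  refine h01.imp (fun h0 => ⟨h0, ?_, ?_⟩) fun h1 => ⟨h1, ?_, hker⟩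
  · intro hA0
    obtain ⟨v, hv0, hv⟩ := Matrix.exists_mulVec_eq_zero_iff.mpr hA0
    have h1 := hker v hv
    have : r ⬝ᵥ v = 0 := by
      rw [h1, dotProduct_smul, h0, smul_zero]
    rw [this, zero_smul] at h1
    exact hv0 h1
  · rw [hAv, h0, zero_smul, sub_zero, he]
  · rw [hAv, h1, one_smul, he, sub_self]

/-- A one-dimensional radical. -/
theorem radical_line {A : Matrix ι ι F} {r e : ι → F} (hA : IsAltM A) (h1 : r ⬝ᵥ e = 1) (hAe : A *ᵥ e = 0)
    (hker : ∀ v, A *ᵥ v = 0 → v = (r ⬝ᵥ v) • e) {k n : ℕ}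
    {b : Module.Basis ((Fin k ⊕ Fin k) ⊕ Fin n) F (ι → F)}
    (g1 : ∀ i j : Fin k, Matrix.toBilin' A (b (Sum.inl (Sum.inl i))) (b (Sum.inl (Sum.inr j))) = if i = j then 1 else 0)
    (g2 : ∀ i j : Fin k, Matrix.toBilin' A (b (Sum.inl (Sum.inl i))) (b (Sum.inl (Sum.inl j))) = 0)
    (g3 : ∀ i j : Fin k, Matrix.toBilin' A (b (Sum.inl (Sum.inr i))) (b (Sum.inl (Sum.inr j))) = 0)
    (h4 : ∀ (j : Fin n) (v : ι → F), Matrix.toBilin' A (b (Sum.inr j)) v = 0) :
    n = 1 ∧ A *ᵥ e = 0 := by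
  refine ⟨?_, hAe⟩
  have hrad : ∀ j, A *ᵥ b (Sum.inr j) = 0 := fun j => funext fun i => by
    have h := LinearMap.IsAlt.neg hA.isAlt (b (Sum.inr j)) (Pi.single i 1)
    rw [h4 j (Pi.single i 1), neg_zero, Matrix.toBilin'_apply', single_one_dotProduct] at h
    exact h.symm
  have hle : n ≤ 1 := by
    by_contra hn
    let j0 : Fin n := ⟨0, by omega⟩
    let j1 : Fin n := ⟨1, by omega⟩
    have hne : (Sum.inr j0 : (Fin k ⊕ Fin k) ⊕ Fin n) ≠ Sum.inr j1 := by simp [j0, j1]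
    have hb : ∀ j j', b.repr (b (Sum.inr j)) j' = (r ⬝ᵥ b (Sum.inr j)) * b.repr e j' := fun j j' => by
      conv_lhs => rw [hker _ (hrad j), map_smul]
      rfl
    have e00 := hb j0 (Sum.inr j0)
    have e01 := hb j0 (Sum.inr j1)
    have e11 := hb j1 (Sum.inr j1)
    rw [Module.Basis.repr_self, Finsupp.single_eq_same] at e00 e11
    rw [Module.Basis.repr_self, Finsupp.single_eq_of_ne hne.symm] at e01
    rcases mul_eq_zero.mp e01.symm with h | h
    · rw [h, zero_mul] at e00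
      exact one_ne_zero e00
    · rw [h, mul_zero] at e11
      exact one_ne_zero e11
  have hne : n ≠ 0 := by
    rintro rfl
    have he : e = 0 := by
      have hco : ∀ x : Fin k ⊕ Fin k, Matrix.toBilin' A (b (Sum.inl x)) e = 0 := fun x => by
        rw [Matrix.toBilin'_apply', hAe, dotProduct_zero]
      rw [← b.sum_repr e]
      refine Finset.sum_eq_zero fun z _ => ?_
      rcases z with x | j
      · suffices hrep : b.repr e (Sum.inl x) = 0 by rw [hrep, zero_smul]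
        rcases x with x | x
        · have h := hco (Sum.inr x)
          rw [← b.sum_repr e] at h
          simpa [-Module.Basis.sum_repr, map_sum, gram_symplectic hA.isAlt g1 g2 g3, Fintype.sum_sum_type, Matrix.J, Matrix.one_apply]
            using h
        · have h := hco (Sum.inl x)
          rw [← b.sum_repr e] at h
          simpa [-Module.Basis.sum_repr, map_sum, gram_symplectic hA.isAlt g1 g2 g3, Fintype.sum_sum_type, Matrix.J, Matrix.one_apply]
            using h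
      · exact j.elim0
    exact one_ne_zero (by rw [← h1, he, dotProduct_zero])
  omega

/-- The non-alternating representative in even dimension. -/
def evenTwo (F : Type*) [Field F] (m : ℕ) [NeZero m] : Matrix (Fin m ⊕ Fin m) (Fin m ⊕ Fin m) F :=
  Matrix.J (Fin m) F + vecMulVec (Pi.single (Sum.inr 0) 1) (Pi.single (Sum.inr 0) 1)

/-- The representative in odd dimension. -/
def oddTwo (F : Type*) [Field F] (m : ℕ) : Matrix (Unit ⊕ (Fin m ⊕ Fin m)) (Unit ⊕ (Fin m ⊕ Fin m)) F :=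
  Matrix.fromBlocks 1 0 0 (Matrix.J (Fin m) F)

theorem cong_evenTwo [Finite F] [NeZero m] {S : Matrix (Fin m ⊕ Fin m) (Fin m ⊕ Fin m) F}
    (hsym : Sᵀ = S) (hdet : S.det ≠ 0) (hna : ∃ i, S i i ≠ 0) : Cong S (evenTwo F m) := by
  obtain ⟨A, r, e, hA, hS, he, hcase⟩ := exists_char_two_data hsym hdet
  have hr : r ≠ 0 := by
    rintro rfl
    obtain ⟨i, hi⟩ := hna
    exact hi (by rw [hS]; simp [hA.2 i])
  rcases hcase with ⟨h0, hA0, hAe⟩ | ⟨h1, hAe, hker⟩
  · obtain ⟨P, c, hP⟩ := cong_alt hA hA0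
    -- absorb the scalar
    obtain ⟨w, hw⟩ := ((Finite.injective_iff_bijective).mp (CharTwo.sq_injective (R := F))).2 ((c⁻¹ : Fˣ) : F)
    have hw' : w ^ 2 = ((c⁻¹ : Fˣ) : F) := hw
    have hw0 : w ≠ 0 := fun h0 => (c⁻¹).ne_zero (by rw [← hw', h0]; simp)
    set P₁ : GL (Fin m ⊕ Fin m) F := P * scalarGL (Units.mk0 w hw0) with hP₁
    have hP₁A : (P₁ : Matrix (Fin m ⊕ Fin m) (Fin m ⊕ Fin m) F)ᵀ * A * (P₁ : Matrix (Fin m ⊕ Fin m) (Fin m ⊕ Fin m) F) = Matrix.J (Fin m) F := by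
      rw [hP₁, Units.val_mul, coe_scalarGL, Units.val_mk0, transpose_mul, transpose_smul, transpose_one,
        smul_mul_assoc, one_mul, mul_smul_comm, mul_one, smul_mul_assoc, mul_smul_comm, smul_mul_assoc, smul_smul,
        hP, smul_smul, ← pow_two, hw', ← Units.val_mul, inv_mul_cancel, Units.val_one, one_smul]
    have he0 : ((P₁⁻¹ : GL (Fin m ⊕ Fin m) F) : Matrix (Fin m ⊕ Fin m) (Fin m ⊕ Fin m) F) *ᵥ e ≠ 0 := fun h => hr (by
      have h' := congrArg (fun v => (P₁ : Matrix (Fin m ⊕ Fin m) (Fin m ⊕ Fin m) F) *ᵥ v) h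
      rw [mulVec_mulVec, ← Units.val_mul, mul_inv_cancel, Units.val_one, one_mulVec, mulVec_zero] at h'
      rw [← hAe, h', mulVec_zero])
    obtain ⟨g, hg⟩ := CfsgLib.Symp.exists_smul_eq_of_ne_zero
      (u := Pi.single (Sum.inl 0) (1 : F)) (by simp) he0
    have hgm : (g : Matrix (Fin m ⊕ Fin m) (Fin m ⊕ Fin m) F) *ᵥ Pi.single (Sum.inl 0) 1 = ((P₁⁻¹ : GL (Fin m ⊕ Fin m) F) : Matrix (Fin m ⊕ Fin m) (Fin m ⊕ Fin m) F) *ᵥ e := hg
    let g' : GL (Fin m ⊕ Fin m) F :=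
      Matrix.GeneralLinearGroup.mk'' (g : Matrix (Fin m ⊕ Fin m) (Fin m ⊕ Fin m) F) (SymplecticGroup.symplectic_det g.2)
    set P₂ : GL (Fin m ⊕ Fin m) F := P₁ * g' with hP₂
    have hP₂A : (P₂ : Matrix (Fin m ⊕ Fin m) (Fin m ⊕ Fin m) F)ᵀ * A * (P₂ : Matrix (Fin m ⊕ Fin m) (Fin m ⊕ Fin m) F) = Matrix.J (Fin m) F := by
      rw [hP₂, Units.val_mul, transpose_mul]
      calc (g : Matrix (Fin m ⊕ Fin m) (Fin m ⊕ Fin m) F)ᵀ * (P₁ : Matrix (Fin m ⊕ Fin m) (Fin m ⊕ Fin m) F)ᵀ * A * ((P₁ : Matrix (Fin m ⊕ Fin m) (Fin m ⊕ Fin m) F) * (g : Matrix (Fin m ⊕ Fin m) (Fin m ⊕ Fin m) F))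
          = (g : Matrix (Fin m ⊕ Fin m) (Fin m ⊕ Fin m) F)ᵀ * ((P₁ : Matrix (Fin m ⊕ Fin m) (Fin m ⊕ Fin m) F)ᵀ * A * (P₁ : Matrix (Fin m ⊕ Fin m) (Fin m ⊕ Fin m) F)) * (g : Matrix (Fin m ⊕ Fin m) (Fin m ⊕ Fin m) F) := by
            simp only [mul_assoc]
        _ = _ := by rw [hP₁A]; exact SymplecticGroup.mem_iff'.mp g.2
    have hP₂e : (P₂ : Matrix (Fin m ⊕ Fin m) (Fin m ⊕ Fin m) F) *ᵥ Pi.single (Sum.inl 0) 1 = e := by
      rw [hP₂, Units.val_mul, ← mulVec_mulVec]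
      show (P₁ : Matrix (Fin m ⊕ Fin m) (Fin m ⊕ Fin m) F) *ᵥ ((g : Matrix (Fin m ⊕ Fin m) (Fin m ⊕ Fin m) F) *ᵥ _) = e
      rw [hgm, mulVec_mulVec, ← Units.val_mul, mul_inv_cancel, Units.val_one, one_mulVec]
    have hP₂r : (P₂ : Matrix (Fin m ⊕ Fin m) (Fin m ⊕ Fin m) F)ᵀ *ᵥ r = Pi.single (Sum.inr 0) 1 := by
      rw [← hAe, ← hP₂e, mulVec_mulVec, mulVec_mulVec, hP₂A, mulVec_single_one]
      funext i
      rcases i with i | i <;> simp [Matrix.J, Matrix.one_apply, Pi.single_apply]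
    refine ⟨P₂, 1, ?_⟩
    rw [hS, Matrix.mul_add, Matrix.add_mul, hP₂A, mul_vecMulVec, vecMulVec_mul, hP₂r, Units.val_one, one_smul,
      ← mulVec_transpose, hP₂r]
    rfl
  · exfalso
    obtain ⟨k, n, b, g1, g2, g3, h4⟩ :=
      CfsgLib.Forms.exists_symplectic_basis _ _ (Matrix.toBilin' A) hA.isAlt rfl
    obtain ⟨hn1, -⟩ := radical_line hA h1 hAe hker g1 g2 g3 h4
    subst hn1
    have := Module.finrank_eq_card_basis b
    rw [Module.finrank_pi] at this
    simp at this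
    omega

theorem cong_oddTwo [Finite F] {S : Matrix (Unit ⊕ (Fin m ⊕ Fin m)) (Unit ⊕ (Fin m ⊕ Fin m)) F}
    (hsym : Sᵀ = S) (hdet : S.det ≠ 0) : Cong S (oddTwo F m) := by
  obtain ⟨A, r, e, hA, hS, he, hcase⟩ := exists_char_two_data hsym hdet
  rcases hcase with ⟨-, hA0, -⟩ | ⟨h1, hAe, hker⟩
  · exact absurd (det_eq_zero_of_alt_odd hA (by simp)) hA0
  obtain ⟨k, n, b, g1, g2, g3, h4⟩ :=
    CfsgLib.Forms.exists_symplectic_basis _ _ (Matrix.toBilin' A) hA.isAlt rfl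
  obtain ⟨hn1, -⟩ := radical_line hA h1 hAe hker g1 g2 g3 h4
  subst hn1
  obtain rfl : k = m := by
    have := Module.finrank_eq_card_basis b
    rw [Module.finrank_pi] at this
    simp at this
    omega
  have hAe' : ∀ v, v ⬝ᵥ (A *ᵥ e) = 0 := fun v => by rw [hAe, dotProduct_zero]
  have heA : ∀ v, e ⬝ᵥ (A *ᵥ v) = 0 := fun v => by
    rw [dotProduct_mulVec, ← mulVec_transpose, hA.1, neg_mulVec, hAe, neg_zero, zero_dotProduct]
  let col : Unit ⊕ (Fin k ⊕ Fin k) → (Unit ⊕ (Fin k ⊕ Fin k) → F) :=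
    Sum.elim (fun _ => e) fun x => b (Sum.inl x) + (r ⬝ᵥ b (Sum.inl x)) • e
  let P : Matrix (Unit ⊕ (Fin k ⊕ Fin k)) (Unit ⊕ (Fin k ⊕ Fin k)) F := Matrix.of fun a i => col i a
  have hl : ∀ x, r ⬝ᵥ (b (Sum.inl x) + (r ⬝ᵥ b (Sum.inl x)) • e) = 0 := fun x => by
    rw [dotProduct_add, dotProduct_smul, h1, smul_eq_mul, mul_one]
    exact CharTwo.add_self_eq_zero _
  have hP : Pᵀ * S * P = oddTwo F k := by
    ext i j
    rw [congr_apply, hS, add_mulVec, dotProduct_add, vecMulVec_mulVec]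
    show col i ⬝ᵥ (A *ᵥ col j) + col i ⬝ᵥ (MulOpposite.op (r ⬝ᵥ col j) • r) = _
    rw [op_smul_eq_smul, dotProduct_smul, smul_eq_mul, dotProduct_comm (col i) r]
    rcases i with ⟨⟩ | x <;> rcases j with ⟨⟩ | y
    · simp [col, oddTwo, heA, h1]
    · simp [col, oddTwo, heA, hl, h1]
    · simp [col, oddTwo, hAe', hl, h1]
    · show (b (Sum.inl x) + _ • e) ⬝ᵥ (A *ᵥ (b (Sum.inl y) + _ • e)) + r ⬝ᵥ (b (Sum.inl y) + _ • e) *
        r ⬝ᵥ (b (Sum.inl x) + _ • e) = _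
      rw [hl, hl, mulVec_add, mulVec_smul, hAe, smul_zero, add_zero, add_dotProduct, smul_dotProduct, heA,
        smul_zero, add_zero, mul_zero, add_zero, ← Matrix.toBilin'_apply', gram_symplectic hA.isAlt g1 g2 g3]
      simp [oddTwo, CharTwo.neg_eq]
  have hJ : (oddTwo F k).det ≠ 0 := by
    rw [oddTwo, det_fromBlocks_zero₂₁, det_one, one_mul]
    exact (Matrix.isUnit_det_J (Fin k) F).ne_zero
  have hPdet : P.det ≠ 0 := fun h0 => hJ (by rw [← hP, det_mul, h0, mul_zero])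
  exact ⟨Matrix.GeneralLinearGroup.mkOfDetNeZero P hPdet, 1, by rw [Units.val_one, one_smul]; exact hP⟩

end CharTwoCase

end CfsgLib.GraphInv
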