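import Cfsg.Agent.GraphInv.PSL
import Mathlib.RingTheory.IntegralDomain

/-!
The number of classes under the inner group in one class of involutory graph automorphisms.
-/

set_option autoImplicit false
set_option linter.unusedSectionVars false

open Matrix CfsgLib.AutPSL

namespace CfsgLib.GraphInv

variable {F : Type*} [Field F] [Finite F] {n m : ℕ}

theorem gcd_double (m c : ℕ) : Nat.gcd (2 * m) (Nat.gcd c m) = Nat.gcd m c := by
  rw [Nat.gcd_comm c m]
  exact Nat.gcd_eq_right ((Nat.gcd_dvd_left m c).trans (dvd_mul_left m 2))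

theorem count_other (hn : 3 ≤ n) (S : GL (Fin n) F) (hS : SymSkew (S : Matrix (Fin n) (Fin n) F))
    (h : Odd n ∨ CharP F 2) :
    Cfsg.splitClassCount (Cfsg.inndiagPSL n F) (Cfsg.Inn (Matrix.ProjectiveSpecialLinearGroup (Fin n) F))
        (graphAut S) = Nat.gcd n (Nat.card Fˣ) := by
  rw [splitClassCount_graphAut hn, det_map_eq_powers hS.1
    (h.imp (fun h' => by rwa [Fintype.card_fin]) (fun h' => ⟨h', inferInstance⟩)),
    Fintype.card_fin, IsCyclic.index_powMonoidHom_range, Nat.gcd_comm (Nat.card Fˣ) n, ← Nat.gcd_assoc,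
    Nat.gcd_self]

theorem count_skew (h2 : (2 : F) ≠ 0) (hnm : n = 2 * m) (hn : 3 ≤ n) (S : GL (Fin n) F)
    (hS : (S : Matrix (Fin n) (Fin n) F)ᵀ = -(S : Matrix (Fin n) (Fin n) F)) :
    Cfsg.splitClassCount (Cfsg.inndiagPSL n F) (Cfsg.Inn (Matrix.ProjectiveSpecialLinearGroup (Fin n) F))
        (graphAut S) = Nat.gcd m (Nat.card Fˣ) := by
  obtain ⟨-, hmult, hdet⟩ := skew_data h2 hnm (Matrix.GeneralLinearGroup.det_ne_zero S) hS
  have hU : (simGroup (S : Matrix (Fin n) (Fin n) F)).map Matrix.GeneralLinearGroup.det =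
      (powMonoidHom m : Fˣ →* Fˣ).range := by
    ext u
    constructor
    · rintro ⟨g, ⟨c, hc⟩, rfl⟩
      exact ⟨c, Units.ext (by simpa using (hdet g c hc).symm)⟩
    · rintro ⟨c, rfl⟩
      obtain ⟨g, hg, hg'⟩ := hmult c
      exact ⟨g, ⟨c, hg⟩, Units.ext (by simpa using hg')⟩
  rw [splitClassCount_graphAut hn, hU, IsCyclic.index_powMonoidHom_range, hnm, gcd_double]

omit [Finite F] in
theorem half_card [Fintype F] (h2 : (2 : F) ≠ 0) :
    ∃ k : ℕ, Nat.card Fˣ = 2 * k ∧ (∀ u : Fˣ, u ^ k = 1 ∨ u ^ k = -1) ∧ ∃ u : Fˣ, u ^ k = -1 := by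
  classical
  have hch : ringChar F ≠ 2 := fun hchar => by
    have := ringChar.charP F
    rw [hchar] at this
    exact h2 CharTwo.two_eq_zero
  have hodd := FiniteField.odd_card_of_char_ne_two hch
  refine ⟨Fintype.card F / 2, ?_, fun u => ?_, ?_⟩
  · rw [Nat.card_units, Nat.card_eq_fintype_card]; omega
  · rcases FiniteField.pow_dichotomy hch (a := (u : F)) u.ne_zero with h | h
    · exact Or.inl (Units.ext (by simpa using h))
    · exact Or.inr (Units.ext (by simpa using h))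
  · obtain ⟨α, hα⟩ := FiniteField.exists_nonsquare (F := F) hch
    have hα0 : α ≠ 0 := by rintro rfl; exact hα ⟨0, by simp⟩
    refine ⟨Units.mk0 α hα0, Units.ext ?_⟩
    rcases FiniteField.pow_dichotomy hch hα0 with h | h
    · exact absurd ((FiniteField.isSquare_iff hch hα0).mpr h) hα
    · simpa using h

theorem count_sym (h2 : (2 : F) ≠ 0) (hnm : n = 2 * m) (hn : 3 ≤ n) (S : GL (Fin n) F)
    (hS : (S : Matrix (Fin n) (Fin n) F)ᵀ = (S : Matrix (Fin n) (Fin n) F)) :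
    Cfsg.splitClassCount (Cfsg.inndiagPSL n F) (Cfsg.Inn (Matrix.ProjectiveSpecialLinearGroup (Fin n) F))
        (graphAut S) = Nat.gcd n (Nat.card Fˣ) / 2 := by
  cases nonempty_fintype F
  have hS0 := Matrix.GeneralLinearGroup.det_ne_zero S
  obtain ⟨k, hk, hdich, hneg⟩ := half_card (F := F) h2
  have hU : (simGroup (S : Matrix (Fin n) (Fin n) F)).map Matrix.GeneralLinearGroup.det =
      (powMonoidHom k : Fˣ →* Fˣ).range ⊔ (powMonoidHom m : Fˣ →* Fˣ).range := by
    apply le_antisymm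
    · rintro u ⟨g, ⟨c, hc⟩, rfl⟩
      have h1 := det_sq hS0 hc
      rw [Fintype.card_fin, show (c : F) ^ n = ((c : F) ^ m) ^ 2 by rw [hnm, mul_comm, pow_mul]] at h1
      rcases sq_eq_sq_iff_eq_or_eq_neg.mp h1 with h | h
      · exact Subgroup.mem_sup_right ⟨c, Units.ext (by simpa using h.symm)⟩
      · obtain ⟨u, hu⟩ := hneg
        exact Subgroup.mem_sup.mpr ⟨_, ⟨u, rfl⟩, _, ⟨c, rfl⟩, Units.ext (by simp [powMonoidHom_apply, hu, h])⟩
    · intro u hu
      obtain ⟨_, ⟨v, rfl⟩, _, ⟨c, rfl⟩, rfl⟩ := Subgroup.mem_sup.mp hu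
      obtain ⟨δ, hδ, hv⟩ : ∃ δ : F, (δ = 1 ∨ δ = -1) ∧ ((v ^ k : Fˣ) : F) = δ := by
        rcases hdich v with h | h
        · exact ⟨1, Or.inl rfl, by rw [h]; rfl⟩
        · exact ⟨-1, Or.inr rfl, by rw [h]; simp⟩
      obtain ⟨g, hg, hg'⟩ := sym_mult h2 hnm (by omega) hS0 hS hδ c
      exact ⟨g, ⟨c, hg⟩, Units.ext (by simp [powMonoidHom_apply, hv, hg', ← Units.val_pow_eq_pow_val])⟩
  rw [splitClassCount_graphAut hn, hU, index_sup_pow, IsCyclic.index_powMonoidHom_range, hk,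
    Nat.gcd_eq_right (dvd_mul_left k 2), hnm, Nat.gcd_mul_left, Nat.mul_div_cancel_left _ (by norm_num),
    Nat.gcd_comm m k, gcd_double, Nat.gcd_comm]

end CfsgLib.GraphInv
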