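import Cfsg.Agent.GraphInv.Classify
import Cfsg.Agent.Quad.CharTwoOdd
import Mathlib.LinearAlgebra.Matrix.Rank

/-!
The standard matrices of the three types and their projective similarity groups.
-/

set_option autoImplicit false
set_option linter.unusedSectionVars false

open Matrix

namespace CfsgLib.GraphInv

variable {F : Type*} [Field F] {m : ℕ}

/-- The polar matrix of `Σ xᵢ yᵢ`. -/
def hypP (F : Type*) [Field F] (m : ℕ) : Matrix (Fin m ⊕ Fin m) (Fin m ⊕ Fin m) F := Matrix.fromBlocks 0 1 1 0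

/-- The polar matrix of `z₁² + a z₁ z₂ + b z₂²`. -/
def binP (a b : F) : Matrix (Fin 2) (Fin 2) F := !![2, a; a, 2 * b]

/-- The polar matrix of `quadFormMinus`. -/
def minusP (F : Type*) [Field F] (m : ℕ) (a b : F) :
    Matrix ((Fin m ⊕ Fin m) ⊕ Fin 2) ((Fin m ⊕ Fin m) ⊕ Fin 2) F :=
  Matrix.fromBlocks (hypP F m) 0 0 (binP a b)

/-- The polar matrix of `quadFormOdd`. -/
def oddP (F : Type*) [Field F] (m : ℕ) : Matrix (Unit ⊕ (Fin m ⊕ Fin m)) (Unit ⊕ (Fin m ⊕ Fin m)) F :=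
  Matrix.fromBlocks (Matrix.of fun _ _ => (2 : F)) 0 0 (hypP F m)

theorem hypP_transpose : (hypP F m)ᵀ = hypP F m := by
  simp [hypP, Matrix.fromBlocks_transpose]

theorem binP_transpose (a b : F) : (binP a b)ᵀ = binP a b := by
  ext i j; fin_cases i <;> fin_cases j <;> rfl

theorem minusP_transpose (a b : F) : (minusP F m a b)ᵀ = minusP F m a b := by
  simp [minusP, Matrix.fromBlocks_transpose, hypP_transpose, binP_transpose]

theorem oddP_transpose : (oddP F m)ᵀ = oddP F m := by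
  simp [oddP, Matrix.fromBlocks_transpose, hypP_transpose]
  rfl

theorem det_J_one : (Matrix.J (Fin m) F).det = 1 := SymplecticGroup.det_eq_one (SymplecticGroup.J_mem _ _)

theorem det_hypP : (hypP F m).det = (-1) ^ m := by
  have : hypP F m = Matrix.fromBlocks (-1) 0 0 1 * Matrix.J (Fin m) F := by
    simp [hypP, Matrix.J, Matrix.fromBlocks_multiply]
  rw [this, det_mul, det_J_one, det_fromBlocks_zero₂₁, det_one, det_neg, det_one]
  simp

theorem det_binP (a b : F) : (binP a b).det = 4 * b - a ^ 2 := by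
  simp [binP, Matrix.det_fin_two]; ring

theorem det_minusP (a b : F) : (minusP F m a b).det = (-1) ^ m * (4 * b - a ^ 2) := by
  rw [minusP, det_fromBlocks_zero₂₁, det_hypP, det_binP]

theorem det_oddP : (oddP F m).det = 2 * (-1) ^ m := by
  rw [oddP, det_fromBlocks_zero₂₁, det_hypP, det_unique]
  rfl

theorem two_quadPlus (v : Fin m ⊕ Fin m → F) :
    2 * Cfsg.quadFormPlus m F v = v ⬝ᵥ (hypP F m *ᵥ v) := by
  simp only [Cfsg.quadFormPlus, hypP, fromBlocks_mulVec, dotProduct, Fintype.sum_sum_type, Sum.elim_inl,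
    Sum.elim_inr, zero_mulVec, one_mulVec, zero_add, add_zero,
    Function.comp_apply, ← Finset.sum_add_distrib, Finset.mul_sum]
  exact Finset.sum_congr rfl fun i _ => by ring

theorem two_quadMinus (a b : F) (v : (Fin m ⊕ Fin m) ⊕ Fin 2 → F) :
    2 * Cfsg.quadFormMinus m F a b v = v ⬝ᵥ (minusP F m a b *ᵥ v) := by
  have h := two_quadPlus (F := F) (v ∘ Sum.inl)
  simp only [Cfsg.quadFormPlus, Function.comp_apply] at h
  rw [← Sum.elim_comp_inl_inr v, minusP, fromBlocks_mulVec, sumElim_dotProduct_sumElim]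
  simp only [Sum.elim_comp_inl, Sum.elim_comp_inr, zero_mulVec, zero_add, add_zero]
  simp only [Cfsg.quadFormMinus, Sum.elim_inl, Sum.elim_inr, Function.comp_apply]
  rw [mul_add, h]
  congr 1
  simp [binP, dotProduct, Fin.sum_univ_two, mulVec]
  ring

theorem two_quadOdd (v : Unit ⊕ (Fin m ⊕ Fin m) → F) :
    2 * Cfsg.quadFormOdd m F v = v ⬝ᵥ (oddP F m *ᵥ v) := by
  have h := two_quadPlus (F := F) (v ∘ Sum.inr)
  simp only [Cfsg.quadFormPlus, Function.comp_apply] at h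
  rw [← Sum.elim_comp_inl_inr v, oddP, fromBlocks_mulVec, sumElim_dotProduct_sumElim]
  simp only [Sum.elim_comp_inl, Sum.elim_comp_inr, zero_mulVec, zero_add, add_zero]
  simp only [Cfsg.quadFormOdd, Sum.elim_inl, Sum.elim_inr, Function.comp_apply]
  rw [mul_add, h]
  congr 1
  simp [dotProduct, mulVec]
  ring

theorem PGO_plus_equiv (h2 : (2 : F) ≠ 0) :
    Nonempty (Cfsg.projQuot (simGroup (hypP F m)) ≃* Cfsg.PGO F (Cfsg.quadFormPlus m F)) := by
  unfold Cfsg.PGO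
  rw [quadSimilarityGroup_eq h2 hypP_transpose two_quadPlus]
  exact ⟨MulEquiv.refl _⟩

theorem PGO_minus_equiv (h2 : (2 : F) ≠ 0) (a b : F) :
    Nonempty (Cfsg.projQuot (simGroup (minusP F m a b)) ≃* Cfsg.PGO F (Cfsg.quadFormMinus m F a b)) := by
  unfold Cfsg.PGO
  rw [quadSimilarityGroup_eq h2 (minusP_transpose a b) (two_quadMinus a b)]
  exact ⟨MulEquiv.refl _⟩

theorem PGO_odd_equiv (h2 : (2 : F) ≠ 0) :
    Nonempty (Cfsg.projQuot (simGroup (oddP F m)) ≃* Cfsg.PGO F (Cfsg.quadFormOdd m F)) := by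
  unfold Cfsg.PGO
  rw [quadSimilarityGroup_eq h2 oddP_transpose two_quadOdd]
  exact ⟨MulEquiv.refl _⟩

theorem GSp_eq : Cfsg.GSp m F = simGroup (Matrix.J (Fin m) F) := similarityGroup_eq fun _ _ => rfl

theorem PGSp_equiv : Nonempty (Cfsg.projQuot (simGroup (Matrix.J (Fin m) F)) ≃* Cfsg.PGSp m F) := by
  unfold Cfsg.PGSp
  rw [GSp_eq]
  exact ⟨MulEquiv.refl _⟩

/-- The symplectic group as a matrix isometry group. -/
noncomputable def spEquiv : ↥(Matrix.symplecticGroup (Fin m) F) ≃* ↥(isoGroup (Matrix.J (Fin m) F)) where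
  toFun g := ⟨Matrix.GeneralLinearGroup.mk'' (g : Matrix (Fin m ⊕ Fin m) (Fin m ⊕ Fin m) F)
      (SymplecticGroup.symplectic_det g.2), (SymplecticGroup.mem_iff'.mp g.2 :)⟩
  invFun h := ⟨((h : GL (Fin m ⊕ Fin m) F) : Matrix (Fin m ⊕ Fin m) (Fin m ⊕ Fin m) F),
    SymplecticGroup.mem_iff'.mpr h.2⟩
  left_inv _ := rfl
  right_inv _ := Subtype.ext (Units.ext rfl)
  map_mul' _ _ := Subtype.ext (Units.ext rfl)

/-! ### Characteristic two -/

section CharTwoCase

variable [CharP F 2] [Finite F]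

theorem sp_equiv_projQuot [NeZero m] :
    Nonempty (Cfsg.projQuot (simGroup (Matrix.J (Fin m) F)) ≃* ↥(Matrix.symplecticGroup (Fin m) F)) := by
  obtain ⟨e⟩ := nonempty_iso_equiv (S := Matrix.J (Fin m) F) (fun h => by
    have := congrFun (congrFun h (Sum.inr 0)) (Sum.inl 0)
    simp [Matrix.J] at this)
  exact ⟨e.symm.trans spEquiv.symm⟩

theorem diag_transpose {ι : Type} [Fintype ι] [DecidableEq ι] {S : Matrix ι ι F} (hsym : Sᵀ = S)
    {r : ι → F} (hr : ∀ i, r i ^ 2 = S i i) {h : Matrix ι ι F} (he : hᵀ * S * h = S) : hᵀ *ᵥ r = r := by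
  funext j
  have h1 := congr_mulVec S h (Pi.single j 1) (Pi.single j 1)
  rw [he, self_eq_sq hsym hr, self_eq_sq hsym hr] at h1
  have h2 := CharTwo.sq_injective h1
  rw [dotProduct_mulVec, ← mulVec_transpose, dotProduct_single_one, dotProduct_single_one] at h2
  exact h2.symm

theorem oddTwo_equiv :
    Nonempty (Cfsg.projQuot (simGroup (oddTwo F m)) ≃* ↥(Matrix.symplecticGroup (Fin m) F)) := by
  obtain ⟨e⟩ := nonempty_iso_equiv (S := oddTwo F m) (fun h => by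
    have := congrFun (congrFun h (Sum.inl ())) (Sum.inl ())
    simp [oddTwo] at this)
  have hdetJ : IsUnit (Matrix.J (Fin m) F).det := Matrix.isUnit_det_J _ _
  have hsym : (oddTwo F m)ᵀ = oddTwo F m := by
    rw [oddTwo, fromBlocks_transpose, J_transpose, transpose_one, transpose_zero, transpose_zero]
    congr 1
    ext i j; exact CharTwo.neg_eq _
  let ψ : ↥(Matrix.symplecticGroup (Fin m) F) →* ↥(isoGroup (oddTwo F m)) :=
    { toFun := fun g => ⟨Matrix.GeneralLinearGroup.mk'' (fromBlocks 1 0 0 (g : Matrix (Fin m ⊕ Fin m) (Fin m ⊕ Fin m) F)) (by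
          rw [det_fromBlocks_zero₂₁, det_one, one_mul]; exact SymplecticGroup.symplectic_det g.2), by
          show (fromBlocks 1 0 0 (g : Matrix (Fin m ⊕ Fin m) (Fin m ⊕ Fin m) F))ᵀ * oddTwo F m * fromBlocks 1 0 0 (g : Matrix (Fin m ⊕ Fin m) (Fin m ⊕ Fin m) F) = _
          rw [oddTwo, fromBlocks_transpose, fromBlocks_multiply, fromBlocks_multiply]
          simp [SymplecticGroup.mem_iff'.mp g.2]⟩
      map_one' := Subtype.ext (Units.ext (by
        show fromBlocks 1 0 0 (1 : Matrix (Fin m ⊕ Fin m) (Fin m ⊕ Fin m) F) = 1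
        exact fromBlocks_one))
      map_mul' := fun g h => Subtype.ext (Units.ext (by
        show fromBlocks 1 0 0 ((g : Matrix (Fin m ⊕ Fin m) (Fin m ⊕ Fin m) F) * (h : Matrix (Fin m ⊕ Fin m) (Fin m ⊕ Fin m) F)) = fromBlocks 1 0 0 (g : Matrix (Fin m ⊕ Fin m) (Fin m ⊕ Fin m) F) *
          fromBlocks 1 0 0 (h : Matrix (Fin m ⊕ Fin m) (Fin m ⊕ Fin m) F)
        simp [fromBlocks_multiply])) }
  refine ⟨e.symm.trans (MulEquiv.ofBijective ψ ⟨?_, ?_⟩).symm⟩
  · intro g h hgh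
    exact Subtype.ext (congrArg (fun x : ↥(isoGroup (oddTwo F m)) =>
      ((x : GL (Unit ⊕ (Fin m ⊕ Fin m)) F) : Matrix (Unit ⊕ (Fin m ⊕ Fin m)) (Unit ⊕ (Fin m ⊕ Fin m)) F).toBlocks₂₂) hgh)
  · rintro ⟨h, hh⟩
    set H := (h : Matrix (Unit ⊕ (Fin m ⊕ Fin m)) (Unit ⊕ (Fin m ⊕ Fin m)) F) with hH
    have hh' : Hᵀ * oddTwo F m * H = oddTwo F m := hh
    set r : Unit ⊕ (Fin m ⊕ Fin m) → F := Pi.single (Sum.inl ()) 1 with hr0
    have hr : ∀ i, r i ^ 2 = oddTwo F m i i := by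
      rintro (⟨⟩ | i | i) <;> simp [hr0, oddTwo, Matrix.J]
    have h1 : Hᵀ *ᵥ r = r := diag_transpose hsym hr hh'
    have hSr : oddTwo F m *ᵥ r = r := by
      rw [hr0, mulVec_single_one]
      funext i
      rcases i with ⟨⟩ | i <;> simp [oddTwo]
    have h2 : H *ᵥ r = r := by
      have hS : IsUnit (oddTwo F m) := (Matrix.isUnit_iff_isUnit_det _).mpr (by
        rw [oddTwo, det_fromBlocks_zero₂₁, det_one, one_mul]; exact hdetJ)
      have hHu : IsUnit Hᵀ := (Matrix.isUnit_iff_isUnit_det _).mpr (by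
        rw [det_transpose]; exact (Matrix.isUnit_iff_isUnit_det _).mp h.isUnit)
      refine Matrix.mulVec_injective_iff_isUnit.mpr hS (Matrix.mulVec_injective_iff_isUnit.mpr hHu ?_)
      show Hᵀ *ᵥ (oddTwo F m *ᵥ (H *ᵥ r)) = Hᵀ *ᵥ (oddTwo F m *ᵥ r)
      rw [mulVec_mulVec, mulVec_mulVec, hh', hSr, h1]
    have e11 : H.toBlocks₁₁ = 1 := by
      ext ⟨⟩ ⟨⟩
      simpa [hr0, mulVec_single_one, Matrix.toBlocks₁₁, Matrix.toBlocks₁₂, Matrix.toBlocks₂₁] using congrFun h2 (Sum.inl ())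
    have e21 : H.toBlocks₂₁ = 0 := by
      ext i ⟨⟩
      simpa [hr0, mulVec_single_one, Matrix.toBlocks₁₁, Matrix.toBlocks₁₂, Matrix.toBlocks₂₁] using congrFun h2 (Sum.inr i)
    have e12 : H.toBlocks₁₂ = 0 := by
      ext ⟨⟩ i
      simpa [hr0, mulVec_single_one, Matrix.toBlocks₁₁, Matrix.toBlocks₁₂, Matrix.toBlocks₂₁] using congrFun h1 (Sum.inr i)
    have hdec : H = fromBlocks 1 0 0 H.toBlocks₂₂ := by
      conv_lhs => rw [← fromBlocks_toBlocks H, e11, e12, e21]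
    have hA : H.toBlocks₂₂ ∈ Matrix.symplecticGroup (Fin m) F := by
      rw [SymplecticGroup.mem_iff']
      rw [hdec, oddTwo, fromBlocks_transpose, fromBlocks_multiply, fromBlocks_multiply] at hh'
      simpa using congrArg Matrix.toBlocks₂₂ hh'
    exact ⟨⟨_, hA⟩, Subtype.ext (Units.ext hdec.symm)⟩

theorem evenTwo_equiv [NeZero m] :
    ∃ t : ↥(Matrix.symplecticGroup (Fin m) F),
      Cfsg.IsTransvection (t : Matrix (Fin m ⊕ Fin m) (Fin m ⊕ Fin m) F) ∧
      Nonempty (Cfsg.projQuot (simGroup (evenTwo F m)) ≃*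
        ↥(Subgroup.centralizer ({t} : Set ↥(Matrix.symplecticGroup (Fin m) F)))) := by
  set e₀ : Fin m ⊕ Fin m → F := Pi.single (Sum.inl 0) 1 with he₀
  set l : Fin m ⊕ Fin m → F := Pi.single (Sum.inr 0) 1 with hl
  have hJe : Matrix.J (Fin m) F *ᵥ e₀ = l := by
    rw [he₀, mulVec_single_one]
    funext i
    rcases i with i | i <;> simp [hl, Matrix.J, Matrix.one_apply, Pi.single_apply]
  have hJ : IsUnit (Matrix.J (Fin m) F) := (Matrix.isUnit_iff_isUnit_det _).mpr (Matrix.isUnit_det_J _ _)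
  have hsym : (evenTwo F m)ᵀ = evenTwo F m := by
    rw [evenTwo, transpose_add, transpose_vecMulVec, J_transpose]
    congr 1
    ext i j; exact CharTwo.neg_eq _
  have hr : ∀ i, l i ^ 2 = evenTwo F m i i := by
    intro i
    rcases i with i | i <;> simp [hl, evenTwo, Matrix.J, vecMulVec_apply, pow_two]
  refine ⟨CfsgLib.Symp.tv e₀ 1, ⟨?_, ?_⟩, ?_⟩
  · show ((1 : Matrix (Fin m ⊕ Fin m) (Fin m ⊕ Fin m) F) + (1 : F) • vecMulVec e₀ (Matrix.J (Fin m) F *ᵥ e₀) - 1).rank = 1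
    rw [add_sub_cancel_left, one_smul, hJe]
    refine le_antisymm (rank_vecMulVec_le _ _) (Nat.one_le_iff_ne_zero.mpr fun h => ?_)
    have h0 := LinearMap.range_eq_bot.mp (Submodule.finrank_eq_zero.mp h)
    have := congrFun (LinearMap.congr_fun h0 (Pi.single (Sum.inr 0) 1)) (Sum.inl 0)
    simp [vecMulVec_apply, he₀, hl] at this
  · show ((1 : Matrix (Fin m ⊕ Fin m) (Fin m ⊕ Fin m) F) + (1 : F) • vecMulVec e₀ (Matrix.J (Fin m) F *ᵥ e₀) - 1) *
        ((1 : Matrix (Fin m ⊕ Fin m) (Fin m ⊕ Fin m) F) + (1 : F) • vecMulVec e₀ (Matrix.J (Fin m) F *ᵥ e₀) - 1) = 0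
    rw [add_sub_cancel_left, one_smul, hJe, vecMulVec_mul_vecMulVec]
    simp [he₀, hl]
  obtain ⟨e⟩ := nonempty_iso_equiv (S := evenTwo F m) (fun h => by
    have := congrFun (congrFun h (Sum.inr 0)) (Sum.inr 0)
    simp [evenTwo, Matrix.J, vecMulVec_apply] at this)
  have hfix : ∀ g : ↥(Matrix.symplecticGroup (Fin m) F),
      g ∈ Subgroup.centralizer ({CfsgLib.Symp.tv e₀ 1} : Set ↥(Matrix.symplecticGroup (Fin m) F)) ↔
        (g : Matrix (Fin m ⊕ Fin m) (Fin m ⊕ Fin m) F) *ᵥ e₀ = e₀ := by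
    intro g
    rw [Subgroup.mem_centralizer_singleton_iff]
    constructor
    · intro hg
      have h1 : CfsgLib.Symp.tv (g • e₀) (1 : F) = CfsgLib.Symp.tv e₀ 1 := by
        rw [← CfsgLib.Symp.tv_conj, hg, mul_inv_cancel_right]
      obtain ⟨x, hx⟩ := CfsgLib.Symp.exists_form_eq_one (F := F) (l := Fin m) (v := g • e₀) (fun h0 => by
        have h5 : e₀ = 0 := by rw [← inv_smul_smul g e₀, h0]; exact mulVec_zero _
        have h6 := congrFun h5 (Sum.inl 0)
        rw [he₀, Pi.single_eq_same] at h6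
        exact one_ne_zero h6)
      have h2 := congrArg (fun t : ↥(Matrix.symplecticGroup (Fin m) F) => t • x) h1
      simp only [CfsgLib.Symp.tv_smul, one_mul, add_right_inj] at h2
      rw [CfsgLib.Symp.form_swap x (g • e₀), hx, CharTwo.neg_eq, one_smul] at h2
      have h3 : g • e₀ = CfsgLib.Symp.form x e₀ • e₀ := h2
      have h4 := congrArg (fun v => CfsgLib.Symp.form x v) h3
      simp only [CfsgLib.Symp.form_smul_right] at h4
      rw [CfsgLib.Symp.form_swap x (g • e₀), hx, CharTwo.neg_eq] at h4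
      have hlam : CfsgLib.Symp.form x e₀ = 1 := CharTwo.sq_injective (by
        show _ ^ 2 = (1 : F) ^ 2
        rw [pow_two, ← h4, one_pow])
      rw [hlam, one_smul] at h3
      exact h3
    · intro hg
      have hg' : g • e₀ = e₀ := hg
      have h7 := CfsgLib.Symp.tv_conj g e₀ (1 : F)
      rw [hg', mul_inv_eq_iff_eq_mul] at h7
      exact h7
  let ψ : ↥(Subgroup.centralizer ({CfsgLib.Symp.tv e₀ 1} : Set ↥(Matrix.symplecticGroup (Fin m) F))) →*
      ↥(isoGroup (evenTwo F m)) :=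
    { toFun := fun g => ⟨(spEquiv g.1 : GL (Fin m ⊕ Fin m) F), by
        have hJg := SymplecticGroup.mem_iff'.mp g.1.2
        have hge := (hfix g.1).mp g.2
        have hgl : (g.1 : Matrix (Fin m ⊕ Fin m) (Fin m ⊕ Fin m) F)ᵀ *ᵥ l = l := by
          have h8 := congrArg (fun M => M *ᵥ e₀) hJg
          simp only [← mulVec_mulVec, hge, hJe] at h8
          exact h8
        show (g.1 : Matrix (Fin m ⊕ Fin m) (Fin m ⊕ Fin m) F)ᵀ * evenTwo F m * (g.1 : Matrix (Fin m ⊕ Fin m) (Fin m ⊕ Fin m) F) = evenTwo F m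
        rw [evenTwo, Matrix.mul_add, Matrix.add_mul, hJg, mul_vecMulVec, vecMulVec_mul, ← hl, hgl,
          ← mulVec_transpose, hgl]⟩
      map_one' := Subtype.ext (Units.ext rfl)
      map_mul' := fun _ _ => Subtype.ext (Units.ext rfl) }
  refine ⟨e.symm.trans (MulEquiv.ofBijective ψ ⟨?_, ?_⟩).symm⟩
  · intro g h hgh
    exact Subtype.ext (Subtype.ext (congrArg (fun x : ↥(isoGroup (evenTwo F m)) =>
      ((x : GL (Fin m ⊕ Fin m) F) : Matrix (Fin m ⊕ Fin m) (Fin m ⊕ Fin m) F)) hgh))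
  · rintro ⟨h, hh⟩
    set H := (h : Matrix (Fin m ⊕ Fin m) (Fin m ⊕ Fin m) F) with hH
    have hh' : Hᵀ * evenTwo F m * H = evenTwo F m := hh
    have h1 : Hᵀ *ᵥ l = l := diag_transpose hsym hr hh'
    have hJH : Hᵀ * Matrix.J (Fin m) F * H = Matrix.J (Fin m) F := by
      rw [evenTwo, Matrix.mul_add, Matrix.add_mul, mul_vecMulVec, vecMulVec_mul, ← hl, h1, ← mulVec_transpose,
        h1] at hh'
      exact add_right_cancel hh'
    have h2 : H *ᵥ e₀ = e₀ := by
      refine Matrix.mulVec_injective_iff_isUnit.mpr hJ (Matrix.mulVec_injective_iff_isUnit.mpr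
        (((Matrix.isUnit_iff_isUnit_det _).mpr (by rw [det_transpose]; exact (Matrix.isUnit_iff_isUnit_det _).mp h.isUnit))) ?_)
      show Hᵀ *ᵥ (Matrix.J (Fin m) F *ᵥ (H *ᵥ e₀)) = Hᵀ *ᵥ (Matrix.J (Fin m) F *ᵥ e₀)
      rw [mulVec_mulVec, mulVec_mulVec, hJH, hJe, h1]
    exact ⟨⟨⟨H, SymplecticGroup.mem_iff'.mpr hJH⟩, (hfix _).mpr h2⟩, Subtype.ext (Units.ext rfl)⟩

theorem PGO_odd_two_equiv :
    Nonempty (Cfsg.PGO F (Cfsg.quadFormOdd m F) ≃* ↥(Matrix.symplecticGroup (Fin m) F)) := by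
  set Q := Cfsg.quadFormOdd m F with hQ
  have hsmul : ∀ (w : F) v, Q (w • v) = w ^ 2 * Q v := fun w v => by
    simp only [hQ, CfsgLib.Quad.CharTwoOdd.oddForm_eq, Pi.smul_comp, Pi.smul_apply, smul_eq_mul,
      CfsgLib.Quad.CharTwoOdd.plus_smul]
    ring
  have hone : ∀ x : GL (Unit ⊕ (Fin m ⊕ Fin m)) F, x ∈ Cfsg.isometryGroup F Q →
      ∀ v, Q ((x : Matrix _ _ F) *ᵥ v) = Q v := fun x hx v => hx v 0
  obtain ⟨e⟩ := nonempty_projQuot_equiv_sub (H := Cfsg.Geo.quadSimilarityGroup Q)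
    (K := Cfsg.isometryGroup F Q) (fun x hx => ⟨1, fun v => by rw [hone x hx, Units.val_one, one_mul]⟩)
    (fun x hx hxs => by
      obtain ⟨c, hc⟩ := (Cfsg.Geo.mem_scalars_iff x).mp hxs
      have h1 := hone x hx (Pi.single (Sum.inl ()) 1)
      rw [hc, smul_mulVec, one_mulVec, hsmul,
        show Q (Pi.single (Sum.inl ()) 1) = 1 by simp [hQ, Cfsg.quadFormOdd], mul_one] at h1
      have h2 : (c : F) = 1 := CharTwo.sq_injective (show (c : F) ^ 2 = (1 : F) ^ 2 by rw [h1, one_pow])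
      exact Units.ext (by rw [hc, h2, one_smul]; rfl))
    (fun x ⟨c, hc⟩ => by
      obtain ⟨w, hw⟩ := ((Finite.injective_iff_bijective).mp (CharTwo.sq_injective (R := F))).2 ((c⁻¹ : Fˣ) : F)
      have hw' : w ^ 2 = ((c⁻¹ : Fˣ) : F) := hw
      have hw0 : w ≠ 0 := fun h0 => (c⁻¹).ne_zero (by rw [← hw', h0]; simp)
      refine ⟨scalarGL (Units.mk0 w hw0), scalarGL_mem _, fun v _ => ?_⟩
      show Q (((x * scalarGL (Units.mk0 w hw0) : GL _ F) : Matrix _ _ F) *ᵥ v) = Q v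
      rw [Units.val_mul, coe_scalarGL, ← mulVec_mulVec, smul_mulVec, one_mulVec, mulVec_smul, hsmul,
        Units.val_mk0, hc, hw', ← mul_assoc, ← Units.val_mul, inv_mul_cancel, Units.val_one, one_mul])
  exact ⟨e.symm.trans (CfsgLib.Quad.CharTwoOdd.oddEquivSymp m)⟩

end CharTwoCase

end CfsgLib.GraphInv
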