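import Cfsg.Agent.GraphInv.Models

/-!
Multipliers and determinants of similarities.
-/

set_option autoImplicit false
set_option linter.unusedSectionVars false

open Matrix

namespace CfsgLib.GraphInv

variable {F : Type*} [Field F] {ι κ : Type} [Fintype ι] [DecidableEq ι] [Fintype κ] [DecidableEq κ] {m : ℕ}

/-- Every multiplier `c` occurs with determinant `δ c^m`. -/
def MultSurj (S : Matrix ι ι F) (m : ℕ) (δ : F) : Prop :=
  ∀ c : Fˣ, ∃ h : GL ι F, (h : Matrix ι ι F)ᵀ * S * (h : Matrix ι ι F) = (c : F) • S ∧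
    (h : Matrix ι ι F).det = δ * (c : F) ^ m

/-- The multiplier determines the determinant as `c^m`. -/
def DetExact (S : Matrix ι ι F) (m : ℕ) : Prop :=
  ∀ (h : GL ι F) (c : Fˣ), (h : Matrix ι ι F)ᵀ * S * (h : Matrix ι ι F) = (c : F) • S →
    (h : Matrix ι ι F).det = (c : F) ^ m

theorem det_conj_mul (P h : GL ι F) :
    ((P * h * P⁻¹ : GL ι F) : Matrix ι ι F).det = (h : Matrix ι ι F).det := by
  rw [Units.val_mul, Units.val_mul, det_mul, det_mul, mul_comm (P : Matrix ι ι F).det, mul_assoc, ← det_mul,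
    ← Units.val_mul, mul_inv_cancel, Units.val_one, det_one, mul_one]

theorem sim_conj {S T : Matrix ι ι F} {P : GL ι F} {d : Fˣ}
    (e : (P : Matrix ι ι F)ᵀ * S * (P : Matrix ι ι F) = (d : F) • T) {h : GL ι F} {c : F}
    (hh : (h : Matrix ι ι F)ᵀ * T * (h : Matrix ι ι F) = c • T) :
    ((P * h * P⁻¹ : GL ι F) : Matrix ι ι F)ᵀ * S * ((P * h * P⁻¹ : GL ι F) : Matrix ι ι F) = c • S := by
  have hS : S = ((P⁻¹ : GL ι F) : Matrix ι ι F)ᵀ * ((d : F) • T) * ((P⁻¹ : GL ι F) : Matrix ι ι F) := by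
    rw [← e, ← mul_assoc, ← mul_assoc, ← transpose_mul, ← Units.val_mul, mul_inv_cancel, Units.val_one,
      transpose_one, one_mul, mul_assoc, ← Units.val_mul, mul_inv_cancel, Units.val_one, mul_one]
  calc ((P * h * P⁻¹ : GL ι F) : Matrix ι ι F)ᵀ * S * ((P * h * P⁻¹ : GL ι F) : Matrix ι ι F)
      = ((P⁻¹ : GL ι F) : Matrix ι ι F)ᵀ * ((h : Matrix ι ι F)ᵀ * ((P : Matrix ι ι F)ᵀ * S * (P : Matrix ι ι F)) *
          (h : Matrix ι ι F)) * ((P⁻¹ : GL ι F) : Matrix ι ι F) := by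
        simp only [Units.val_mul, transpose_mul, mul_assoc]
    _ = c • (((P⁻¹ : GL ι F) : Matrix ι ι F)ᵀ * ((d : F) • T) * ((P⁻¹ : GL ι F) : Matrix ι ι F)) := by
        simp only [e, mul_smul_comm, smul_mul_assoc, hh, smul_comm c (d : F)]
    _ = _ := by rw [← hS]

theorem MultSurj.cong {S T : Matrix ι ι F} {δ : F} (hT : MultSurj T m δ) (h : Cong S T) : MultSurj S m δ := by
  obtain ⟨P, d, e⟩ := h
  intro c
  obtain ⟨g, hg, hdet⟩ := hT c
  exact ⟨P * g * P⁻¹, sim_conj e hg, by rw [det_conj_mul, hdet]⟩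

theorem DetExact.cong {S T : Matrix ι ι F} (hT : DetExact T m) (h : Cong S T) : DetExact S m := by
  obtain ⟨P, d, e⟩ := h.symm
  intro g c hg
  rw [← det_conj_mul P g]
  exact hT _ c (sim_conj e hg)

theorem glReindex_sim (e : ι ≃ κ) {S : Matrix ι ι F} {g : GL ι F} {c : F} :
    (glReindex F e g : Matrix κ κ F)ᵀ * Matrix.reindex e e S * (glReindex F e g : Matrix κ κ F) =
        c • Matrix.reindex e e S ↔
      (g : Matrix ι ι F)ᵀ * S * (g : Matrix ι ι F) = c • S := by
  rw [coe_glReindex, Matrix.transpose_reindex, ← reindex_mul, ← reindex_mul, ← reindex_smul,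
    (Matrix.reindex e e).apply_eq_iff_eq]

theorem MultSurj.reindex {S : Matrix ι ι F} {δ : F} (h : MultSurj S m δ) (e : ι ≃ κ) :
    MultSurj (Matrix.reindex e e S) m δ := fun c => by
  obtain ⟨g, hg, hdet⟩ := h c
  exact ⟨glReindex F e g, (glReindex_sim e).mpr hg, by rw [coe_glReindex, det_reindex_self, hdet]⟩

theorem DetExact.reindex {S : Matrix ι ι F} (h : DetExact S m) (e : ι ≃ κ) :
    DetExact (Matrix.reindex e e S) m := fun g c hg => by
  obtain ⟨g', rfl⟩ := (glReindex F e).surjective g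
  rw [coe_glReindex, det_reindex_self]
  exact h g' c ((glReindex_sim e).mp hg)

/-- `diag(c I, I)`. -/
def dilate (F : Type*) [Field F] (m : ℕ) (c : Fˣ) : GL (Fin m ⊕ Fin m) F :=
  ⟨Matrix.fromBlocks ((c : F) • 1) 0 0 1, Matrix.fromBlocks (((c⁻¹ : Fˣ) : F) • 1) 0 0 1,
    by simp [fromBlocks_multiply, smul_smul], by simp [fromBlocks_multiply, smul_smul]⟩

theorem det_dilate (c : Fˣ) : (dilate F m c : Matrix (Fin m ⊕ Fin m) (Fin m ⊕ Fin m) F).det = (c : F) ^ m := by
  show (Matrix.fromBlocks ((c : F) • (1 : Matrix (Fin m) (Fin m) F)) 0 0 (1 : Matrix (Fin m) (Fin m) F)).det = _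
  rw [det_fromBlocks_zero₂₁, det_smul, det_one, Fintype.card_fin]
  ring

theorem dilate_J (c : Fˣ) :
    (dilate F m c : Matrix (Fin m ⊕ Fin m) (Fin m ⊕ Fin m) F)ᵀ * Matrix.J (Fin m) F *
      (dilate F m c : Matrix (Fin m ⊕ Fin m) (Fin m ⊕ Fin m) F) = (c : F) • Matrix.J (Fin m) F := by
  simp [dilate, Matrix.J, fromBlocks_transpose, fromBlocks_multiply, fromBlocks_smul]

theorem dilate_hypP (c : Fˣ) :
    (dilate F m c : Matrix (Fin m ⊕ Fin m) (Fin m ⊕ Fin m) F)ᵀ * hypP F m *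
      (dilate F m c : Matrix (Fin m ⊕ Fin m) (Fin m ⊕ Fin m) F) = (c : F) • hypP F m := by
  simp [dilate, hypP, fromBlocks_transpose, fromBlocks_multiply, fromBlocks_smul]

theorem multSurj_J : MultSurj (Matrix.J (Fin m) F) m 1 := fun c =>
  ⟨dilate F m c, dilate_J c, by rw [det_dilate, one_mul]⟩

theorem detExact_J : DetExact (Matrix.J (Fin m) F) m := by
  intro g c hg
  have h1 : ((g * (dilate F m c)⁻¹ : GL (Fin m ⊕ Fin m) F) : Matrix (Fin m ⊕ Fin m) (Fin m ⊕ Fin m) F) ∈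
      Matrix.symplecticGroup (Fin m) F := by
    rw [SymplecticGroup.mem_iff', Units.val_mul, transpose_mul]
    calc _ = ((dilate F m c)⁻¹ : GL (Fin m ⊕ Fin m) F).valᵀ * ((g : Matrix _ _ F)ᵀ * Matrix.J (Fin m) F *
          (g : Matrix _ _ F)) * ((dilate F m c)⁻¹ : GL (Fin m ⊕ Fin m) F).val := by simp only [mul_assoc]
      _ = Matrix.J (Fin m) F := by
        rw [hg, ← dilate_J, ← mul_assoc, ← mul_assoc, ← transpose_mul, ← Units.val_mul, mul_inv_cancel,
          Units.val_one, transpose_one, one_mul, mul_assoc, ← Units.val_mul, mul_inv_cancel, Units.val_one,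
          mul_one]
  have h2 := SymplecticGroup.det_eq_one h1
  calc (g : Matrix (Fin m ⊕ Fin m) (Fin m ⊕ Fin m) F).det
      = ((g * (dilate F m c)⁻¹ : GL (Fin m ⊕ Fin m) F) : Matrix (Fin m ⊕ Fin m) (Fin m ⊕ Fin m) F).det *
        (dilate F m c : Matrix (Fin m ⊕ Fin m) (Fin m ⊕ Fin m) F).det := by
        rw [← det_mul, ← Units.val_mul, inv_mul_cancel_right]
    _ = _ := by rw [h2, det_dilate, one_mul]

theorem multSurj_hypP (δ : F) (hδ : δ = 1 ∨ δ = -1) [NeZero m] : MultSurj (hypP F m) m δ := by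
  intro c
  rcases hδ with rfl | rfl
  · exact ⟨dilate F m c, dilate_hypP c, by rw [det_dilate, one_mul]⟩
  let σ : Equiv.Perm (Fin m ⊕ Fin m) := Equiv.swap (Sum.inl 0) (Sum.inr 0)
  let W : Matrix (Fin m ⊕ Fin m) (Fin m ⊕ Fin m) F := σ.permMatrix F
  have hdet : W.det = -1 := by simp [W, σ, Matrix.det_permutation]
  have hW : Wᵀ * hypP F m * W = hypP F m := by
    have hT : Wᵀ = W := by
      show (σ.permMatrix F)ᵀ = σ.permMatrix F
      rw [Matrix.transpose_permMatrix, show σ⁻¹ = σ from Equiv.swap_inv _ _]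
    rw [hT]
    show σ.permMatrix F * hypP F m * σ.permMatrix F = hypP F m
    rw [Equiv.Perm.permMatrix, PEquiv.toMatrix_toPEquiv_mul, PEquiv.mul_toMatrix_toPEquiv]
    ext i j
    simp only [submatrix_apply, id_eq, σ, Equiv.symm_swap, Equiv.swap_apply_def, hypP]
    rcases i with i | i <;> rcases j with j | j <;> (repeat' split_ifs) <;>
      simp_all [Matrix.one_apply, eq_comm]
  refine ⟨Matrix.GeneralLinearGroup.mkOfDetNeZero W (by rw [hdet]; simp) * dilate F m c, ?_, ?_⟩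
  · rw [Units.val_mul, transpose_mul]
    show _ * Wᵀ * hypP F m * (W * _) = _
    calc _ = (dilate F m c : Matrix _ _ F)ᵀ * (Wᵀ * hypP F m * W) * (dilate F m c : Matrix _ _ F) := by
          simp only [mul_assoc]
      _ = _ := by rw [hW, dilate_hypP]
  · rw [Units.val_mul, det_mul, det_dilate]
    show W.det * _ = _
    rw [hdet]

theorem multSurj_minusP {a b : F} [Finite F] (h2 : (2 : F) ≠ 0) (hd : 4 * b - a ^ 2 ≠ 0) (δ : F)
    (hδ : δ = 1 ∨ δ = -1) : MultSurj (minusP F m a b) (m + 1) δ := by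
  intro c
  -- the binary part
  have hbin : ∃ B : Matrix (Fin 2) (Fin 2) F, Bᵀ * binP a b * B = (c : F) • binP a b ∧ B.det = δ * c := by
    obtain ⟨w, z, hwz⟩ := CfsgLib.Forms.exists_binary h2 (one_ne_zero : (1 : F) ≠ 0)
      (show b - a ^ 2 / 4 ≠ 0 by
        intro h0
        have h4 : (4 : F) ≠ 0 := by
          rw [show (4 : F) = 2 * 2 by norm_num]; exact mul_ne_zero h2 h2
        refine hd ?_
        field_simp at h0
        linear_combination h0) (c : F)
    set s := w - a * z / 2 with hs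
    have hN : s ^ 2 + a * s * z + b * z ^ 2 = (c : F) := by
      have h4 : (4 : F) ≠ 0 := by
        rw [show (4 : F) = 2 * 2 by norm_num]; exact mul_ne_zero h2 h2
      rw [hs, ← hwz]
      field_simp
      ring
    rcases hδ with rfl | rfl
    · refine ⟨!![s, -(b * z); z, s + a * z], ?_, by simp [Matrix.det_fin_two]; linear_combination hN⟩
      ext i j
      fin_cases i <;> fin_cases j <;>
        simp [binP, Matrix.mul_apply, Fin.sum_univ_two, ← hN] <;> ring
    · refine ⟨!![s, s * a + b * z; z, -s], ?_, by simp [Matrix.det_fin_two]; linear_combination -hN⟩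
      ext i j
      fin_cases i <;> fin_cases j <;>
        simp [binP, Matrix.mul_apply, Fin.sum_univ_two, ← hN] <;> ring
  obtain ⟨B, hB, hBdet⟩ := hbin
  let M : Matrix ((Fin m ⊕ Fin m) ⊕ Fin 2) ((Fin m ⊕ Fin m) ⊕ Fin 2) F :=
    Matrix.fromBlocks (dilate F m c : Matrix (Fin m ⊕ Fin m) (Fin m ⊕ Fin m) F) 0 0 B
  have hMdet : M.det = δ * (c : F) ^ (m + 1) := by
    rw [det_fromBlocks_zero₂₁, det_dilate, hBdet, pow_succ]; ring
  refine ⟨Matrix.GeneralLinearGroup.mkOfDetNeZero M (by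
    rw [hMdet]
    refine mul_ne_zero ?_ (pow_ne_zero _ c.ne_zero)
    rcases hδ with rfl | rfl <;> simp), ?_, hMdet⟩
  show Mᵀ * minusP F m a b * M = _
  simp [M, minusP, fromBlocks_transpose, fromBlocks_multiply, fromBlocks_smul, dilate_hypP, hB]

/-! ### Determinants -/

theorem det_map_eq_powers {S : Matrix ι ι F} (hS : S.det ≠ 0)
    (h : Odd (Fintype.card ι) ∨ CharP F 2 ∧ Finite F) :
    (simGroup S).map Matrix.GeneralLinearGroup.det = (powMonoidHom (Fintype.card ι) : Fˣ →* Fˣ).range := by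
  ext u
  constructor
  · rintro ⟨g, ⟨c, hc⟩, rfl⟩
    have h2 := det_sq hS hc
    set d := (g : Matrix ι ι F).det with hd
    obtain ⟨w, hw0, hw⟩ : ∃ w : F, w ≠ 0 ∧ w ^ Fintype.card ι = d := by
      rcases h with ⟨k, hk⟩ | ⟨hch, hfin⟩
      · refine ⟨d / (c : F) ^ k, div_ne_zero (Matrix.GeneralLinearGroup.det_ne_zero g) (pow_ne_zero _ c.ne_zero),
          ?_⟩
        rw [div_pow, div_eq_iff (pow_ne_zero _ (pow_ne_zero _ c.ne_zero))]
        rw [hk] at h2
        rw [hk, ← pow_mul, mul_comm k, pow_mul, ← h2, ← pow_mul]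
        ring
      · obtain ⟨w, hw⟩ := ((Finite.injective_iff_bijective).mp (CharTwo.sq_injective (R := F))).2 (c : F)
        have hw' : w ^ 2 = (c : F) := hw
        refine ⟨w, fun h0 => c.ne_zero (by rw [← hw', h0]; simp), CharTwo.sq_injective ?_⟩
        show (w ^ Fintype.card ι) ^ 2 = d ^ 2
        rw [h2, ← hw', ← pow_mul, ← pow_mul, mul_comm]
    exact ⟨Units.mk0 w hw0, Units.ext (by simpa using hw)⟩
  · rintro ⟨u, rfl⟩
    refine ⟨scalarGL u, scalars_le S (scalarGL_mem u), Units.ext ?_⟩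
    show ((scalarGL u : GL ι F) : Matrix ι ι F).det = _
    rw [coe_scalarGL, det_smul, det_one, mul_one]
    simp

end CfsgLib.GraphInv
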