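import Cfsg.Agent.GraphInv.Types
import Cfsg.Agent.AutPSL.GraphFieldClasses

/-!
Involutory graph automorphisms of `PSL_n` as congruence classes of symmetric and skew matrices.
-/

set_option autoImplicit false
set_option linter.unusedSectionVars false

open Matrix CfsgLib.AutPSL

namespace CfsgLib.GraphInv

variable {F : Type*} [Field F] {n : ℕ}

/-- The graph automorphism attached to an invertible matrix `S`. -/
def graphAut (S : GL (Fin n) F) : MulAut (Matrix.ProjectiveSpecialLinearGroup (Fin n) F) :=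
  semiAut S⁻¹ (RingEquiv.refl F) * invTrans

theorem graph_normalForm {x : MulAut (Matrix.ProjectiveSpecialLinearGroup (Fin n) F)}
    (hx : Cfsg.IsGraphAutClassPSL x) : ∃ S : GL (Fin n) F, x = graphAut S := by
  obtain ⟨-, δ, γ, hδ, hγ, rfl⟩ := hx
  obtain ⟨g, rfl⟩ := isInnerDiagonal_iff.mp hδ
  obtain rfl := isInvTranspose_iff.mp hγ
  exact ⟨g⁻¹, by rw [graphAut, inv_inv]⟩

theorem isGraph_graphAut (hn : 3 ≤ n) (S : GL (Fin n) F) : Cfsg.IsGraphAutClassPSL (graphAut S) :=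
  ⟨hn, _, _, isInnerDiagonal_iff.mpr ⟨S⁻¹, rfl⟩, isInvTranspose_iff.mpr rfl, rfl⟩

theorem graphAut_one : graphAut (1 : GL (Fin n) F) = invTrans := by
  rw [graphAut, inv_one, semiAut_one, one_mul]

theorem coe_scalar (u : Fˣ) :
    ((Matrix.GeneralLinearGroup.scalar (Fin n) u : GL (Fin n) F) : Matrix (Fin n) (Fin n) F) = (u : F) • 1 :=
  coe_scalarGL u

theorem symSkew_of_dual [NeZero n] {S : GL (Fin n) F} {u : Fˣ}
    (h : S⁻¹ * dualGL S⁻¹ = Matrix.GeneralLinearGroup.scalar (Fin n) u) :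
    SymSkew (S : Matrix (Fin n) (Fin n) F) := by
  have h1 : (S : Matrix (Fin n) (Fin n) F)ᵀ = (u : F) • (S : Matrix (Fin n) (Fin n) F) := by
    have e := congrArg (fun g : GL (Fin n) F => (S : Matrix (Fin n) (Fin n) F) * (g : Matrix (Fin n) (Fin n) F)) h
    simp only [coe_scalar, mul_smul_comm, mul_one, Units.val_mul, ← mul_assoc] at e
    rw [← Units.val_mul, mul_inv_cancel, Units.val_one, one_mul] at e
    rw [← e]
    show _ = ((S⁻¹⁻¹ : GL (Fin n) F) : Matrix (Fin n) (Fin n) F)ᵀ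
    rw [inv_inv]
  have h2 := congrArg Matrix.transpose h1
  rw [transpose_transpose, transpose_smul, h1, smul_smul] at h2
  have hS : (S : Matrix (Fin n) (Fin n) F).det ≠ 0 := Matrix.GeneralLinearGroup.det_ne_zero S
  have hS0 : (S : Matrix (Fin n) (Fin n) F) ≠ 0 := fun h => hS (by rw [h, det_zero])
  have h3 : (u : F) * u = 1 := by
    refine (smul_left_injective F hS0 ?_).symm
    show (1 : F) • (S : Matrix (Fin n) (Fin n) F) = ((u : F) * u) • (S : Matrix (Fin n) (Fin n) F)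
    rw [one_smul]
    exact h2
  refine ⟨hS, ?_⟩
  rcases mul_self_eq_one_iff.mp h3 with h | h
  · exact Or.inl (by rw [h1, h, one_smul])
  · exact Or.inr (by rw [h1, h, neg_smul, one_smul])

theorem dual_of_symSkew {S : GL (Fin n) F} (h : SymSkew (S : Matrix (Fin n) (Fin n) F)) :
    ∃ u : Fˣ, S⁻¹ * dualGL S⁻¹ = Matrix.GeneralLinearGroup.scalar (Fin n) u := by
  obtain ⟨u, hu⟩ : ∃ u : Fˣ, (S : Matrix (Fin n) (Fin n) F)ᵀ = (u : F) • (S : Matrix (Fin n) (Fin n) F) := by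
    rcases h.2 with h | h
    · exact ⟨1, by rw [Units.val_one, one_smul, h]⟩
    · exact ⟨-1, by rw [Units.val_neg, Units.val_one, neg_smul, one_smul, h]⟩
  refine ⟨u, Units.ext ?_⟩
  rw [Units.val_mul, coe_scalar]
  show _ * ((S⁻¹⁻¹ : GL (Fin n) F) : Matrix (Fin n) (Fin n) F)ᵀ = _
  rw [inv_inv, hu, mul_smul_comm, ← Units.val_mul, inv_mul_cancel, Units.val_one]

theorem graphAut_mul_self (S : GL (Fin n) F) :
    graphAut S * graphAut S = semiAut (S⁻¹ * dualGL S⁻¹) (RingEquiv.refl F) := by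
  show semiAut S⁻¹ (1 : RingAut F) * invTrans * (semiAut S⁻¹ (1 : RingAut F) * invTrans) = _
  rw [semiAut_graph_mul, starHom_apply, glMap_one_aut]
  rfl

variable [Finite F]

theorem conj_eq_iff (hn : 3 ≤ n) (k S T : GL (Fin n) F) :
    semiAut k (RingEquiv.refl F) * graphAut S * (semiAut k (RingEquiv.refl F))⁻¹ = graphAut T ↔
      ∃ c : Fˣ, ((k⁻¹ : GL (Fin n) F) : Matrix (Fin n) (Fin n) F)ᵀ * (S : Matrix (Fin n) (Fin n) F) *
        ((k⁻¹ : GL (Fin n) F) : Matrix (Fin n) (Fin n) F) = (c : F) • (T : Matrix (Fin n) (Fin n) F) := by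
  have hinv : (semiAut k (RingEquiv.refl F))⁻¹ = semiAut k⁻¹ (RingEquiv.refl F) :=
    (map_inv (innDiagHom n F) k).symm
  have hlhs : semiAut k (RingEquiv.refl F) * graphAut S * (semiAut k (RingEquiv.refl F))⁻¹ =
      semiAut (k * S⁻¹ * dualGL k⁻¹) (RingEquiv.refl F) * invTrans := by
    rw [hinv, graphAut, mul_assoc, mul_assoc _ invTrans, invTrans_mul_semiAut, ← mul_assoc, ← mul_assoc]
    show semiAut k (1 : RingAut F) * semiAut S⁻¹ (1 : RingAut F) * semiAut (dualGL k⁻¹) (1 : RingAut F) * invTrans = _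
    rw [semiAut_mul', semiAut_mul', glMap_one_aut, one_mul, glMap_one_aut, one_mul]
    rfl
  rw [hlhs, graphAut, mul_left_inj, innDiag_eq_iff (by omega)]
  have hd : ((dualGL k⁻¹)⁻¹ : GL (Fin n) F).val = ((k⁻¹ : GL (Fin n) F) : Matrix (Fin n) (Fin n) F)ᵀ := rfl
  constructor
  · rintro ⟨u, hu⟩
    refine ⟨u, ?_⟩
    have e := congrArg Inv.inv hu
    rw [inv_inv, _root_.mul_inv_rev, _root_.mul_inv_rev, _root_.mul_inv_rev, inv_inv, ← map_inv] at e
    have e' := congrArg (fun g : GL (Fin n) F => (g : Matrix (Fin n) (Fin n) F)) e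
    simp only [Units.val_mul, coe_scalar, hd, smul_mul_assoc, one_mul] at e'
    rw [e', smul_smul, ← Units.val_mul, mul_inv_cancel, Units.val_one, one_smul, mul_assoc]
  · rintro ⟨c, hc⟩
    refine ⟨c, inv_injective ?_⟩
    rw [inv_inv, _root_.mul_inv_rev, _root_.mul_inv_rev, _root_.mul_inv_rev, inv_inv, ← map_inv]
    apply Units.ext
    simp only [Units.val_mul, coe_scalar, hd, smul_mul_assoc, one_mul]
    rw [← mul_assoc, hc, smul_smul, ← Units.val_mul, inv_mul_cancel, Units.val_one, one_smul]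

theorem isConjUnder_iff (hn : 3 ≤ n) (S T : GL (Fin n) F) :
    Cfsg.IsConjUnder (Cfsg.inndiagPSL n F) (graphAut S) (graphAut T) ↔
      Cong (S : Matrix (Fin n) (Fin n) F) (T : Matrix (Fin n) (Fin n) F) := by
  rw [inndiag_eq_range]
  constructor
  · rintro ⟨_, ⟨k, rfl⟩, e⟩
    obtain ⟨c, hc⟩ := (conj_eq_iff hn k S T).mp e.symm
    exact ⟨k⁻¹, c, hc⟩
  · rintro ⟨P, c, hP⟩
    exact ⟨_, ⟨P⁻¹, rfl⟩, ((conj_eq_iff hn P⁻¹ S T).mpr ⟨c, by rwa [inv_inv]⟩).symm⟩

theorem orderOf_graphAut (hn : 3 ≤ n) (S : GL (Fin n) F) :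
    orderOf (graphAut S) = 2 ↔ SymSkew (S : Matrix (Fin n) (Fin n) F) := by
  have : NeZero n := ⟨by omega⟩
  have hne : graphAut S ≠ 1 := fun h => by
    refine semiAut_ne_invTrans hn S⁻¹ (RingEquiv.refl F) ?_
    have h' : semiAut S⁻¹ (RingEquiv.refl F) * invTrans * invTrans = invTrans := by
      rw [← graphAut, h, one_mul]
    rwa [mul_assoc, invTrans_mul_self, mul_one] at h'
  constructor
  · intro h
    have h2 : graphAut S ^ 2 = 1 := h ▸ pow_orderOf_eq_one _
    rw [pow_two, graphAut_mul_self] at h2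
    obtain ⟨u, hu⟩ := (innDiag_eq_iff (by omega) (g := 1)).mp (semiAut_one.trans h2.symm)
    rw [one_mul] at hu
    exact symSkew_of_dual hu
  · intro h
    obtain ⟨u, hu⟩ := dual_of_symSkew h
    refine orderOf_eq_prime ?_ hne
    rw [pow_two, graphAut_mul_self, hu, ← one_mul (Matrix.GeneralLinearGroup.scalar (Fin n) u),
      semiAut_mul_scalar, semiAut_one]

theorem exists_symSkew {x : MulAut (Matrix.ProjectiveSpecialLinearGroup (Fin n) F)}
    (hx : Cfsg.IsGraphAutClassPSL x) (hx2 : orderOf x = 2) :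
    ∃ S : GL (Fin n) F, SymSkew (S : Matrix (Fin n) (Fin n) F) ∧ x = graphAut S := by
  obtain ⟨S, rfl⟩ := graph_normalForm hx
  exact ⟨S, (orderOf_graphAut hx.1 S).mp hx2, rfl⟩

theorem exists_graphAut (hn : 3 ≤ n) {S : Matrix (Fin n) (Fin n) F} (hS : SymSkew S) :
    ∃ T : GL (Fin n) F, (T : Matrix (Fin n) (Fin n) F) = S ∧ Cfsg.IsGraphAutClassPSL (graphAut T) ∧
      orderOf (graphAut T) = 2 :=
  ⟨Matrix.GeneralLinearGroup.mkOfDetNeZero S hS.1, rfl, isGraph_graphAut hn _, (orderOf_graphAut hn _).mpr hS⟩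

theorem centralizer_eq (hn : 3 ≤ n) (S : GL (Fin n) F) :
    Cfsg.inndiagPSL n F ⊓ Subgroup.centralizer {graphAut S} =
      (simGroup (S : Matrix (Fin n) (Fin n) F)).map (innDiagHom n F) := by
  rw [inndiag_eq_range]
  have key : ∀ g : GL (Fin n) F, innDiagHom n F g ∈ Subgroup.centralizer {graphAut S} ↔
      g ∈ simGroup (S : Matrix (Fin n) (Fin n) F) := fun g => by
    rw [Subgroup.mem_centralizer_singleton_iff, ← mul_inv_eq_iff_eq_mul, innDiagHom_apply, conj_eq_iff hn,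
      ← mem_simGroup, inv_mem_iff]
  ext x
  constructor
  · rintro ⟨⟨g, rfl⟩, hc⟩
    exact ⟨g, (key g).mp hc, rfl⟩
  · rintro ⟨g, hg, rfl⟩
    exact ⟨⟨g, rfl⟩, (key g).mpr hg⟩

theorem nonempty_centralizer_equiv (hn : 3 ≤ n) (S : GL (Fin n) F) :
    Nonempty (↥(Cfsg.inndiagPSL n F ⊓ Subgroup.centralizer {graphAut S}) ≃*
      Cfsg.projQuot (simGroup (S : Matrix (Fin n) (Fin n) F))) := by
  have : NeZero n := ⟨by omega⟩
  let ψ : ↥(simGroup (S : Matrix (Fin n) (Fin n) F)) →* MulAut (Matrix.ProjectiveSpecialLinearGroup (Fin n) F) :=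
    (innDiagHom n F).comp (simGroup (S : Matrix (Fin n) (Fin n) F)).subtype
  have hrange : Cfsg.inndiagPSL n F ⊓ Subgroup.centralizer {graphAut S} = ψ.range := by
    rw [centralizer_eq hn, MonoidHom.range_comp, Subgroup.range_subtype]
  have hker : ψ.ker = (Cfsg.Geo.scalars (Fin n) F).subgroupOf (simGroup (S : Matrix (Fin n) (Fin n) F)) := by
    rw [← MonoidHom.comap_ker, ker_innDiagHom (by omega), Matrix.GeneralLinearGroup.center_eq_range_scalar]
    rfl
  exact ⟨(MulEquiv.subgroupCongr hrange).trans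
    ((QuotientGroup.quotientKerEquivRange _).symm.trans (QuotientGroup.quotientMulEquivOfEq hker))⟩

theorem splitClassCount_graphAut (hn : 3 ≤ n) (S : GL (Fin n) F) :
    Cfsg.splitClassCount (Cfsg.inndiagPSL n F) (Cfsg.Inn (Matrix.ProjectiveSpecialLinearGroup (Fin n) F))
        (graphAut S) =
      Nat.gcd n ((simGroup (S : Matrix (Fin n) (Fin n) F)).map Matrix.GeneralLinearGroup.det).index := by
  rw [splitClassCount_eq _ _ inn_le_inndiag, centralizer_eq hn, relIndex_inn_sup (by omega) _ _ rfl]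

end CfsgLib.GraphInv
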