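import Cfsg.Agent.GraphInv.UDesc
import Cfsg.Agent.AutPSU.Classes

/-!
Involutory graph automorphisms of `PSU_n` as congruence classes over the fixed field.
-/

set_option autoImplicit false
set_option linter.unusedSectionVars false

open Matrix

namespace CfsgLib.GraphInv

open CfsgLib.AutPSU

variable {F : Type*} [Field F] [Finite F] {q n : ℕ} {F₀ : Type*} [Field F₀]

/-- The only involution of a finite field's automorphism group. -/
theorem ringAut_invol_unique {τ σ : RingAut F} (hτ : τ ^ 2 = 1) (hτ1 : τ ≠ 1) (hσ : σ ^ 2 = 1) (hσ1 : σ ≠ 1) :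
    τ = σ := by
  cases nonempty_fintype F
  obtain ⟨p, hp⟩ := CharP.exists F
  obtain ⟨k, hpp, hk⟩ := FiniteField.card F p
  have := Fact.mk hpp
  obtain ⟨eA⟩ := CfsgLib.AutPSL.nonempty_ringAut_equiv (p := p) k.2 hk
  have : NeZero (k : ℕ) := ⟨k.ne_zero⟩
  let K := (powMonoidHom 2 : Multiplicative (ZMod (k : ℕ)) →* Multiplicative (ZMod (k : ℕ))).ker
  have hK2 : Nat.card K ≤ 2 := by
    rw [IsCyclic.card_powMonoidHom_ker]
    exact Nat.gcd_le_right _ (by norm_num)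
  have hmem : ∀ ρ : RingAut F, ρ ^ 2 = 1 → eA ρ ∈ K := fun ρ hρ => by
    show powMonoidHom 2 (eA ρ) = 1
    rw [powMonoidHom_apply, ← map_pow, hρ, map_one]
  by_contra hne
  let f : Fin 3 → K := ![1, ⟨eA τ, hmem τ hτ⟩, ⟨eA σ, hmem σ hσ⟩]
  have h1 : eA τ ≠ 1 := fun e => hτ1 (eA.injective (e.trans (map_one eA).symm))
  have h2 : eA σ ≠ 1 := fun e => hσ1 (eA.injective (e.trans (map_one eA).symm))
  have h3 : eA τ ≠ eA σ := fun e => hne (eA.injective e)
  have hinj : Function.Injective f := by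
    intro a b hab
    fin_cases a <;> fin_cases b <;> first | rfl | (exfalso; simp [f, Subtype.ext_iff] at hab) <;>
      first | exact h3 hab | exact h3 hab.symm | exact h1 hab | exact h1 hab.symm | exact h2 hab |
        exact h2 hab.symm
  have := Nat.card_le_card_of_injective f hinj
  rw [Nat.card_fin] at this
  omega

variable (hF : Nat.card F = q ^ 2) {σ : RingAut F} (hσ : ∀ a : F, σ a = a ^ q)
include hF hσ

omit hσ in
theorem exists_frob : ∃ σ : RingAut F, ∀ a : F, σ a = a ^ q :=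
  ⟨RingEquiv.ofBijective (CfsgLib.Forms.frobQ hF)
    (Function.Involutive.bijective (CfsgLib.Forms.frobQ_invol hF)), fun _ => rfl⟩

theorem frob_sq : σ ^ 2 = 1 := by
  rw [pow_two]
  refine RingEquiv.ext fun a => ?_
  show σ (σ a) = a
  rw [hσ, hσ]
  exact CfsgLib.Forms.frobQ_invol hF a

theorem frob_ne_one : σ ≠ 1 := fun e => CfsgLib.Forms.frobQ_ne_id hF (RingHom.ext fun a => by
  rw [CfsgLib.Forms.frobQ_apply, RingHom.id_apply, ← hσ, e]
  rfl)

theorem exists_quadExt [Fintype F₀] (hF₀ : Fintype.card F₀ = q) : ∃ j : F₀ →+* F, QuadExt σ j := by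
  classical
  have hord : orderOf σ = 2 := orderOf_eq_prime (frob_sq hF hσ) (frob_ne_one hF hσ)
  have hK := CfsgLib.AutPSL.card_fixField_pow σ hord
  rw [hF] at hK
  have hK' : Nat.card (CfsgLib.AutPSL.fixField σ) = q := Nat.pow_left_injective two_ne_zero hK
  let := Fintype.ofFinite (CfsgLib.AutPSL.fixField σ)
  let e : F₀ ≃+* CfsgLib.AutPSL.fixField σ :=
    FiniteField.ringEquivOfCardEq (K := F₀) (K' := CfsgLib.AutPSL.fixField σ)
      (by rw [hF₀, ← Nat.card_eq_fintype_card (α := CfsgLib.AutPSL.fixField σ), hK'])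
  refine ⟨(CfsgLib.AutPSL.fixField σ).subtype.comp e.toRingHom, frob_sq hF hσ, frob_ne_one hF hσ, fun x => ?_⟩
  constructor
  · intro hx
    exact ⟨e.symm ⟨x, (CfsgLib.AutPSL.mem_fixField σ).mpr hx⟩, by simp⟩
  · rintro ⟨y, rfl⟩
    exact (CfsgLib.AutPSL.mem_fixField σ).mp (e y).2

theorem mem_GU_iff_unit {g : GL (Fin n) F} : g ∈ Cfsg.GU n F q ↔ IsUnit' σ g := by
  rw [← CfsgLib.AutPSL.starHom_fixed_eq_GU (frob_sq hF hσ) hσ]
  show CfsgLib.AutPSL.starHom σ g = g ↔ _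
  constructor
  · intro h
    show (g : Matrix (Fin n) (Fin n) F)ᵀ * (g : Matrix (Fin n) (Fin n) F).map σ = 1
    have h1 := congrArg (CfsgLib.AutPSL.glMap σ) h
    rw [CfsgLib.AutPSL.starHom_apply, ← CfsgLib.AutPSL.glMap_mul_aut, ← pow_two, frob_sq hF hσ,
      CfsgLib.AutPSL.glMap_one_aut] at h1
    rw [← CfsgLib.AutPSL.coe_glMap, ← h1]
    exact (CfsgLib.AutPSL.dualGL g).inv_val
  · intro h
    have h1 : CfsgLib.AutPSL.glMap σ g = CfsgLib.AutPSL.dualGL g := Units.ext (by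
      have h' : (CfsgLib.AutPSL.dualGL g).inv * (CfsgLib.AutPSL.glMap σ g : Matrix (Fin n) (Fin n) F) = 1 := h
      calc (CfsgLib.AutPSL.glMap σ g : Matrix (Fin n) (Fin n) F)
          = (CfsgLib.AutPSL.dualGL g).val *
              ((CfsgLib.AutPSL.dualGL g).inv * (CfsgLib.AutPSL.glMap σ g : Matrix (Fin n) (Fin n) F)) := by
            rw [← mul_assoc, (CfsgLib.AutPSL.dualGL g).val_inv, one_mul]
        _ = _ := by rw [h', mul_one])
    rw [CfsgLib.AutPSL.starHom_apply, ← h1, ← CfsgLib.AutPSL.glMap_mul_aut, ← pow_two, frob_sq hF hσ,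
      CfsgLib.AutPSL.glMap_one_aut]

theorem guMap_eq_dual (g : ↥(Cfsg.GU n F q)) :
    (guMap σ g : GL (Fin n) F) = CfsgLib.AutPSL.dualGL (g : GL (Fin n) F) := by
  have h : CfsgLib.AutPSL.starHom σ (g : GL (Fin n) F) = (g : GL (Fin n) F) := by
    exact (CfsgLib.AutPSL.starHom_fixed_eq_GU (n := n) (frob_sq hF hσ) hσ).ge g.2
  have h1 := congrArg (CfsgLib.AutPSL.glMap σ) h
  rw [CfsgLib.AutPSL.starHom_apply, ← CfsgLib.AutPSL.glMap_mul_aut, ← pow_two, frob_sq hF hσ,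
    CfsgLib.AutPSL.glMap_one_aut] at h1
  exact h1.symm

omit hF hσ in
/-- The matrix of an element of `GU`. -/
abbrev gmat (g : ↥(Cfsg.GU n F q)) : Matrix (Fin n) (Fin n) F := ((g : GL (Fin n) F) : Matrix (Fin n) (Fin n) F)

omit hF hσ in
/-- The graph automorphism attached to a unitary matrix. -/
def uGraph (σ : RingAut F) (S : ↥(Cfsg.GU n F q)) : MulAut (Cfsg.PSU n F q) := suAut S⁻¹ σ

theorem uGraph_normalForm {x : MulAut (Cfsg.PSU n F q)} (hx : Cfsg.IsGraphAutClassPSU x) (hx2 : orderOf x = 2) :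
    ∃ S : ↥(Cfsg.GU n F q), x = uGraph σ S := by
  obtain ⟨hn, δ, φ, τ, hev, hδ, hφ, rfl⟩ := hx
  obtain ⟨g, rfl⟩ := isInnerDiagonal_iff.mp hδ
  obtain rfl := isFieldOf_iff.mp hφ
  rw [← suAut_eq_inndiag_mul] at hx2 ⊢
  have h2 := pow_orderOf_eq_one (suAut g τ)
  rw [hx2, pow_two, suAut_mul] at h2
  have hτ2 : τ * τ = (1 : RingAut F) := (suAut_eq_one hF hn h2).1
  have hτ1 : (τ : RingAut F) ≠ 1 := by
    intro e
    rw [show orderOf τ = 1 by rw [e, orderOf_one]] at hev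
    exact absurd hev (by decide)
  obtain rfl : τ = σ := ringAut_invol_unique (by rw [pow_two]; exact hτ2) hτ1 (frob_sq hF hσ) (frob_ne_one hF hσ)
  exact ⟨g⁻¹, by rw [uGraph, inv_inv]⟩

theorem isGraph_uGraph (hn : 3 ≤ n) (S : ↥(Cfsg.GU n F q)) : Cfsg.IsGraphAutClassPSU (uGraph σ S) := by
  refine ⟨hn, suAut S⁻¹ 1, suAut 1 σ, σ, ?_, isInnerDiagonal_iff.mpr ⟨S⁻¹, rfl⟩, isFieldOf_iff.mpr rfl,
    suAut_eq_inndiag_mul _ _⟩
  rw [orderOf_eq_prime (frob_sq hF hσ) (frob_ne_one hF hσ)]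
  exact even_two

theorem coe_scalarU' (u : ↥(normOne F q)) :
    (scalarU hF n u : GL (Fin n) F) = Matrix.GeneralLinearGroup.scalar (Fin n) (u : Fˣ) := rfl

theorem scalar_mem_normOne [NeZero n] {u : Fˣ}
    (h : Matrix.GeneralLinearGroup.scalar (Fin n) u ∈ Cfsg.GU n F q) : u ∈ normOne F q := by
  rw [mem_GU_iff_unit hF hσ] at h
  have h2 : ((u : F) * σ (u : F)) • (1 : Matrix (Fin n) (Fin n) F) = (1 : F) • 1 := by
    rw [one_smul]
    refine Eq.trans ?_ h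
    rw [coe_scalar, transpose_smul, transpose_one, map_smul', Matrix.map_one σ (map_zero σ) (map_one σ),
      smul_mul_assoc, one_mul, smul_smul]
  have h3 := congrFun (congrFun h2 0) 0
  simp only [Matrix.smul_apply, Matrix.one_apply_eq, smul_eq_mul, mul_one, hσ] at h3
  exact mem_normOne.mpr (Units.ext (by rw [Units.val_pow_eq_pow_val, Units.val_one, pow_succ']; exact h3))

theorem orderOf_uGraph (hn : 3 ≤ n) (S : ↥(Cfsg.GU n F q)) :
    orderOf (uGraph σ S) = 2 ↔ SymSkew (gmat S) := by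
  have : NeZero n := ⟨by omega⟩
  have hne : uGraph σ S ≠ 1 := fun h => frob_ne_one hF hσ (suAut_eq_one hF hn h).1
  have hsq : uGraph σ S ^ 2 = suAut (S⁻¹ * guMap σ S⁻¹) (1 : RingAut F) := by
    rw [pow_two, uGraph, suAut_mul, ← pow_two σ, frob_sq hF hσ]
  have hcoe : ((S⁻¹ * guMap σ S⁻¹ : ↥(Cfsg.GU n F q)) : GL (Fin n) F) =
      (S : GL (Fin n) F)⁻¹ * CfsgLib.AutPSL.dualGL (S : GL (Fin n) F)⁻¹ := by
    rw [Subgroup.coe_mul, guMap_eq_dual hF hσ, InvMemClass.coe_inv]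
  constructor
  · intro h
    have h2 : uGraph σ S ^ 2 = 1 := h ▸ pow_orderOf_eq_one _
    rw [hsq] at h2
    obtain ⟨-, u, hu⟩ := suAut_eq_one hF hn h2
    refine symSkew_of_dual (u := (u : Fˣ)) ?_
    rw [← hcoe, hu]
    rfl
  · intro h
    obtain ⟨u, hu⟩ := dual_of_symSkew h
    have humem : u ∈ normOne F q := scalar_mem_normOne hF hσ (n := n) (by
      rw [← hu, ← hcoe]; exact SetLike.coe_mem _)
    refine orderOf_eq_prime ?_ hne
    have he : S⁻¹ * guMap σ S⁻¹ = scalarU hF n ⟨u, humem⟩ := Subtype.ext (hcoe.trans hu)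
    rw [hsq, he, suAut_scalarU]

theorem exists_symSkewU {x : MulAut (Cfsg.PSU n F q)} (hx : Cfsg.IsGraphAutClassPSU x) (hx2 : orderOf x = 2) :
    ∃ S : ↥(Cfsg.GU n F q), SymSkew (gmat S) ∧ x = uGraph σ S := by
  obtain ⟨S, rfl⟩ := uGraph_normalForm hF hσ hx hx2
  exact ⟨S, (orderOf_uGraph hF hσ hx.1 S).mp hx2, rfl⟩

theorem conjU_eq_iff (hn : 3 ≤ n) (k S T : ↥(Cfsg.GU n F q)) :
    suAut k 1 * uGraph σ S * (suAut k 1)⁻¹ = uGraph σ T ↔
      ∃ c : Fˣ, (gmat k⁻¹)ᵀ * gmat S * gmat k⁻¹ = (c : F) • gmat T := by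
  have hinv : (suAut k 1)⁻¹ = suAut k⁻¹ (1 : RingAut F) := (map_inv (innDiagHom n F q) k).symm
  rw [hinv, uGraph, uGraph, suAut_mul, suAut_mul, guMap_one_aut, one_mul, mul_one]
  have hcoe : ((k * S⁻¹ * guMap σ k⁻¹ : ↥(Cfsg.GU n F q)) : GL (Fin n) F) =
      (k : GL (Fin n) F) * (S : GL (Fin n) F)⁻¹ * CfsgLib.AutPSL.dualGL (k : GL (Fin n) F)⁻¹ := by
    rw [Subgroup.coe_mul, Subgroup.coe_mul, guMap_eq_dual hF hσ, InvMemClass.coe_inv, InvMemClass.coe_inv]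
  have hd : ((CfsgLib.AutPSL.dualGL (k : GL (Fin n) F)⁻¹)⁻¹ : GL (Fin n) F).val =
      (((k : GL (Fin n) F)⁻¹ : GL (Fin n) F) : Matrix (Fin n) (Fin n) F)ᵀ := rfl
  have hk : gmat k⁻¹ = (((k : GL (Fin n) F)⁻¹ : GL (Fin n) F) : Matrix (Fin n) (Fin n) F) := rfl
  constructor
  · intro e
    obtain ⟨-, u, hu⟩ := suAut_eq_suAut hF hn e
    have e1 := congrArg (fun g : ↥(Cfsg.GU n F q) => ((g : GL (Fin n) F))⁻¹) hu
    simp only [Subgroup.coe_mul (H := Cfsg.GU n F q), InvMemClass.coe_inv, inv_inv, _root_.mul_inv_rev,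
      coe_scalarU' hF hσ] at e1
    rw [guMap_eq_dual hF hσ, InvMemClass.coe_inv, ← map_inv] at e1
    have e' := congrArg (fun g : GL (Fin n) F => (g : Matrix (Fin n) (Fin n) F)) e1
    simp only [Units.val_mul, coe_scalar, hd, smul_mul_assoc, one_mul] at e'
    refine ⟨(u : Fˣ), ?_⟩
    show _ = ((u : Fˣ) : F) • gmat T
    rw [hk, gmat, gmat, e', smul_smul, ← Units.val_mul, mul_inv_cancel, Units.val_one, one_smul, mul_assoc]
  · rintro ⟨c, hc⟩
    -- the scalar is automatically of norm one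
    have hc' : (T : GL (Fin n) F)⁻¹ = ((k * S⁻¹ * guMap σ k⁻¹ : ↥(Cfsg.GU n F q)) : GL (Fin n) F) *
        Matrix.GeneralLinearGroup.scalar (Fin n) c := by
      refine inv_injective ?_
      rw [inv_inv, hcoe, _root_.mul_inv_rev, _root_.mul_inv_rev, _root_.mul_inv_rev, inv_inv, ← map_inv]
      apply Units.ext
      simp only [Units.val_mul, coe_scalar, hd, smul_mul_assoc, one_mul]
      rw [hk] at hc
      rw [← mul_assoc, hc, smul_smul, ← Units.val_mul, inv_mul_cancel, Units.val_one, one_smul]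
    have hmem : c ∈ normOne F q := by
      have h1 : Matrix.GeneralLinearGroup.scalar (Fin n) c ∈ Cfsg.GU n F q := by
        have : Matrix.GeneralLinearGroup.scalar (Fin n) c =
            ((k * S⁻¹ * guMap σ k⁻¹ : ↥(Cfsg.GU n F q)) : GL (Fin n) F)⁻¹ * (T : GL (Fin n) F)⁻¹ := by
          rw [hc', inv_mul_cancel_left]
        rw [this]
        exact mul_mem (inv_mem (SetLike.coe_mem _)) (inv_mem (SetLike.coe_mem _))
      have : NeZero n := ⟨by omega⟩
      exact scalar_mem_normOne hF hσ h1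
    have heq : T⁻¹ = k * S⁻¹ * guMap σ k⁻¹ * scalarU hF n ⟨c, hmem⟩ := Subtype.ext hc'
    rw [heq, ← scalarU_comm, suAut_scalarU_mul]

theorem isConjU_iff (hn : 3 ≤ n) (S T : ↥(Cfsg.GU n F q)) :
    Cfsg.IsConjUnder (Cfsg.inndiagPSU n F q) (uGraph σ S) (uGraph σ T) ↔
      ∃ k : GL (Fin n) F, IsUnit' σ k ∧ ∃ c : Fˣ,
        (k : Matrix (Fin n) (Fin n) F)ᵀ * gmat S * (k : Matrix (Fin n) (Fin n) F) = (c : F) • gmat T := by
  rw [inndiag_eq_range]
  constructor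
  · rintro ⟨_, ⟨k, rfl⟩, e⟩
    obtain ⟨c, hc⟩ := (conjU_eq_iff hF hσ hn k S T).mp e.symm
    exact ⟨(k⁻¹ : ↥(Cfsg.GU n F q)), (mem_GU_iff_unit hF hσ).mp (SetLike.coe_mem _), c, hc⟩
  · rintro ⟨P, hP, c, hc⟩
    let P' : ↥(Cfsg.GU n F q) := ⟨P, (mem_GU_iff_unit hF hσ).mpr hP⟩
    exact ⟨_, ⟨P'⁻¹, rfl⟩, ((conjU_eq_iff hF hσ hn P'⁻¹ S T).mpr ⟨c, by rw [inv_inv]; exact hc⟩).symm⟩

omit hF hσ in
/-- The unitary similarities of `S`. -/
def uSim (S : ↥(Cfsg.GU n F q)) : Subgroup ↥(Cfsg.GU n F q) := (simGroup (gmat S)).subgroupOf _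

theorem centralizerU_eq (hn : 3 ≤ n) (S : ↥(Cfsg.GU n F q)) :
    Cfsg.inndiagPSU n F q ⊓ Subgroup.centralizer {uGraph σ S} = (uSim S).map (innDiagHom n F q) := by
  rw [inndiag_eq_range]
  have key : ∀ g : ↥(Cfsg.GU n F q), innDiagHom n F q g ∈ Subgroup.centralizer {uGraph σ S} ↔ g ∈ uSim S := fun g => by
    rw [Subgroup.mem_centralizer_singleton_iff, ← mul_inv_eq_iff_eq_mul, innDiagHom_apply, conjU_eq_iff hF hσ hn,
      uSim, Subgroup.mem_subgroupOf, ← inv_mem_iff (x := (g : GL (Fin n) F))]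
    rfl
  ext x
  constructor
  · rintro ⟨⟨g, rfl⟩, hc⟩
    exact ⟨g, (key g).mp hc, rfl⟩
  · rintro ⟨g, hg, rfl⟩
    exact ⟨⟨g, rfl⟩, (key g).mpr hg⟩

variable {j : F₀ →+* F} (hj : QuadExt σ j)
include hj

/-- Descent data for a unitary matrix. -/
def UDesc (σ : RingAut F) (j : F₀ →+* F) (S : ↥(Cfsg.GU n F q)) (A : Matrix (Fin n) (Fin n) F₀) : Prop :=
  ∃ w : GL (Fin n) F, Desc σ j (S : GL (Fin n) F) A w

theorem exists_udesc [NeZero n] {S : ↥(Cfsg.GU n F q)} (hS : SymSkew (gmat S)) :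
    ∃ A, UDesc σ j S A ∧ SymSkew A := by
  obtain ⟨A, w, h⟩ := hj.exists_desc hS ((mem_GU_iff_unit hF hσ).mp S.2)
  exact ⟨A, ⟨w, h⟩, h.symSkew hS⟩

theorem exists_uGraph (hn : 3 ≤ n) {A : Matrix (Fin n) (Fin n) F₀} (hA : SymSkew A) :
    ∃ S : ↥(Cfsg.GU n F q), UDesc σ j S A ∧ Cfsg.IsGraphAutClassPSU (uGraph σ S) ∧ orderOf (uGraph σ S) = 2 := by
  obtain ⟨S, w, hS, hU, hd⟩ := hj.exists_up hA
  exact ⟨⟨S, (mem_GU_iff_unit hF hσ).mpr hU⟩, ⟨w, hd⟩, isGraph_uGraph hF hσ hn _,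
    (orderOf_uGraph hF hσ hn _).mpr hS⟩

theorem isConjU_iff_cong (hn : 3 ≤ n) {S T : ↥(Cfsg.GU n F q)} {A B : Matrix (Fin n) (Fin n) F₀}
    (hS : UDesc σ j S A) (hT : UDesc σ j T B) :
    Cfsg.IsConjUnder (Cfsg.inndiagPSU n F q) (uGraph σ S) (uGraph σ T) ↔ Cong A B := by
  have : NeZero n := ⟨by omega⟩
  obtain ⟨w, hw⟩ := hS
  obtain ⟨v, hv⟩ := hT
  rw [isConjU_iff hF hσ hn]
  constructor
  · rintro ⟨k, hk, c, hc⟩
    obtain ⟨P, d, -, hP, -⟩ := hj.desc_to hw hv (e := 1) (by rw [Units.val_one, one_smul]; exact hk) hc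
    exact ⟨P, d, hP⟩
  · rintro ⟨P, d, hP⟩
    exact hj.desc_from hw hv hP d.ne_zero

theorem nonempty_centralizerU_equiv (hn : 3 ≤ n) {S : ↥(Cfsg.GU n F q)} {A : Matrix (Fin n) (Fin n) F₀}
    (hS : UDesc σ j S A) :
    Nonempty (↥(Cfsg.inndiagPSU n F q ⊓ Subgroup.centralizer {uGraph σ S}) ≃* Cfsg.projQuot (simGroup A)) := by
  have : NeZero n := ⟨by omega⟩
  obtain ⟨w, hw⟩ := hS
  let π := QuotientGroup.mk' (Subgroup.center (GL (Fin n) F))
  let α : ↥(simGroup A) →* GL (Fin n) F ⧸ Subgroup.center (GL (Fin n) F) :=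
    π.comp ((MulAut.conj w).toMonoidHom.comp ((Matrix.GeneralLinearGroup.map j).comp (simGroup A).subtype))
  let β : ↥(uSim S) →* GL (Fin n) F ⧸ Subgroup.center (GL (Fin n) F) :=
    π.comp ((Cfsg.GU n F q).subtype.comp (uSim S).subtype)
  let ψ : ↥(uSim S) →* MulAut (Cfsg.PSU n F q) := (innDiagHom n F q).comp (uSim S).subtype
  have hψβ : ψ.ker = β.ker := by
    ext g
    rw [MonoidHom.mem_ker, MonoidHom.mem_ker]
    show suAut (g : ↥(Cfsg.GU n F q)) 1 = 1 ↔ π ((g : ↥(Cfsg.GU n F q)) : GL (Fin n) F) = 1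
    constructor
    · intro h
      obtain ⟨-, u, hu⟩ := suAut_eq_one hF hn h
      refine (QuotientGroup.eq_one_iff _).mpr ?_
      rw [hu, coe_scalarU' hF hσ, Matrix.GeneralLinearGroup.center_eq_range_scalar]
      exact ⟨_, rfl⟩
    · intro h
      have h' := (QuotientGroup.eq_one_iff _).mp h
      rw [Matrix.GeneralLinearGroup.center_eq_range_scalar] at h'
      obtain ⟨u, hu⟩ := h'
      have hmem : u ∈ normOne F q := scalar_mem_normOne hF hσ (n := n) (by rw [hu]; exact SetLike.coe_mem _)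
      have hg : (g : ↥(Cfsg.GU n F q)) = scalarU hF n ⟨u, hmem⟩ := Subtype.ext hu.symm
      rw [hg, suAut_scalarU]
  have hα : α.ker = (Cfsg.Geo.scalars (Fin n) F₀).subgroupOf (simGroup A) := by
    ext h
    rw [MonoidHom.mem_ker, Subgroup.mem_subgroupOf]
    show π (w * Matrix.GeneralLinearGroup.map j (h : GL (Fin n) F₀) * w⁻¹) = 1 ↔ _
    rw [QuotientGroup.mk'_apply, QuotientGroup.eq_one_iff]
    have hcen : w * Matrix.GeneralLinearGroup.map j (h : GL (Fin n) F₀) * w⁻¹ ∈ Subgroup.center (GL (Fin n) F) ↔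
        Matrix.GeneralLinearGroup.map j (h : GL (Fin n) F₀) ∈ Subgroup.center (GL (Fin n) F) := by
      refine ⟨fun hm => ?_, fun hm => Subgroup.Normal.conj_mem inferInstance _ hm w⟩
      have := Subgroup.Normal.conj_mem inferInstance _ hm w⁻¹
      simpa [mul_assoc] using this
    rw [hcen, Matrix.GeneralLinearGroup.center_eq_range_scalar, Cfsg.Geo.mem_scalars_iff]
    constructor
    · rintro ⟨u, hu⟩
      have hu' : (u : F) • (1 : Matrix (Fin n) (Fin n) F) = upMat j ((h : GL (Fin n) F₀) : Matrix (Fin n) (Fin n) F₀) := by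
        rw [← coe_scalar, hu]; rfl
      have h0 := congrFun (congrFun hu' 0) 0
      simp only [Matrix.smul_apply, Matrix.one_apply_eq, smul_eq_mul, mul_one] at h0
      set c := ((h : GL (Fin n) F₀) : Matrix (Fin n) (Fin n) F₀) 0 0 with hc
      have hc0 : c ≠ 0 := fun e => u.ne_zero (h0.trans (by show j c = 0; rw [e, map_zero]))
      refine ⟨Units.mk0 c hc0, upMat_injective (j := j) ?_⟩
      rw [← hu', upMat_smul, Units.val_mk0, h0]
      ext a b
      rcases eq_or_ne a b with rfl | hab <;> simp [upMat, *]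
    · rintro ⟨c, hc⟩
      refine ⟨Units.map (j : F₀ →* F) c, Units.ext ?_⟩
      rw [coe_scalar]
      show _ = upMat j _
      rw [hc, upMat_smul]
      ext a b
      rcases eq_or_ne a b with rfl | hab <;> simp [upMat, *]
  have hrange : β.range = α.range := by
    apply le_antisymm
    · rintro _ ⟨g, rfl⟩
      obtain ⟨c, hc⟩ := Subgroup.mem_subgroupOf.mp g.2
      obtain ⟨P, d, μ, hP, hk⟩ := hj.desc_to hw hw (e := 1)
        (by rw [Units.val_one, one_smul]; exact (mem_GU_iff_unit hF hσ).mp (g : ↥(Cfsg.GU n F q)).2) hc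
      refine ⟨⟨P, d, hP⟩, ?_⟩
      show π (w * Matrix.GeneralLinearGroup.map j P * w⁻¹) = π _
      refine (QuotientGroup.eq.mpr ?_)
      show (w * Matrix.GeneralLinearGroup.map j P * w⁻¹)⁻¹ * ((g : ↥(Cfsg.GU n F q)) : GL (Fin n) F) ∈ _
      rw [hk, CfsgLib.AutPSL.scalar_comm, inv_mul_cancel_left, Matrix.GeneralLinearGroup.center_eq_range_scalar]
      exact ⟨μ, rfl⟩
    · rintro _ ⟨⟨P, d, hP⟩, rfl⟩
      obtain ⟨⟨c₁, h₁⟩, d₁, g₁⟩ := hw
      obtain ⟨hk1, hk2⟩ := hj.desc_core h₁ h₁ g₁ g₁ hP d.ne_zero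
      have hfix := hj.fixed_of_gram hk2
      obtain ⟨ν, hν⟩ := hj.exists_norm (a := (j (d : F₀))⁻¹) (by rw [map_inv₀, hj.fix_j]) (by simp)
      have hcj : (c₁ : F) * j (d : F₀) * ((c₁⁻¹ : Fˣ) : F) = j (d : F₀) := by
        rw [mul_comm (c₁ : F), Units.mul_inv_cancel_right]
      have he : (d₁ : F) * ((d₁⁻¹ : Fˣ) : F) * ((c₁ : F) * j (d : F₀) * ((c₁⁻¹ : Fˣ) : F)) = j (d : F₀) := by
        rw [hcj, Units.mul_inv, one_mul]
      rw [he] at hk2
      set k₀ := w * Matrix.GeneralLinearGroup.map j P * w⁻¹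
      have hU : Matrix.GeneralLinearGroup.scalar (Fin n) ν * k₀ ∈ Cfsg.GU n F q := by
        rw [mem_GU_iff_unit hF hσ]
        show _ᵀ * Matrix.map _ σ = 1
        rw [Units.val_mul, coe_scalar, smul_mul_assoc, one_mul, transpose_smul, map_smul', smul_mul_assoc,
          mul_smul_comm, hk2, smul_smul, smul_smul, hν, inv_mul_cancel₀ (by simp), one_smul]
      have hS : (⟨_, hU⟩ : ↥(Cfsg.GU n F q)) ∈ uSim S := by
        rw [uSim, Subgroup.mem_subgroupOf]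
        refine mul_mem (scalars_le _ (scalarGL_mem ν)) ⟨Units.map (j : F₀ →* F) d, ?_⟩
        rw [hk1, hcj]
        rfl
      refine ⟨⟨_, hS⟩, ?_⟩
      show π (Matrix.GeneralLinearGroup.scalar (Fin n) ν * k₀) = π k₀
      rw [map_mul, show π (Matrix.GeneralLinearGroup.scalar (Fin n) ν) = 1 from (QuotientGroup.eq_one_iff _).mpr (by
        rw [Matrix.GeneralLinearGroup.center_eq_range_scalar]; exact ⟨ν, rfl⟩), one_mul]
  have hψ : Cfsg.inndiagPSU n F q ⊓ Subgroup.centralizer {uGraph σ S} = ψ.range := by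
    rw [centralizerU_eq hF hσ hn, MonoidHom.range_comp, Subgroup.range_subtype]
  exact ⟨(MulEquiv.subgroupCongr hψ).trans <| (QuotientGroup.quotientKerEquivRange ψ).symm.trans <|
    (QuotientGroup.quotientMulEquivOfEq hψβ).trans <| (QuotientGroup.quotientKerEquivRange β).trans <|
    (MulEquiv.subgroupCongr hrange).trans <| (QuotientGroup.quotientKerEquivRange α).symm.trans <|
    QuotientGroup.quotientMulEquivOfEq hα⟩

end CfsgLib.GraphInv
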