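import Cfsg.Prelude.Def_LieTypeDatum
import Mathlib.LinearAlgebra.Matrix.NonsingularInverse
import Mathlib.FieldTheory.Finite.Basic

/-!
Similarity groups of square matrices under congruence, and their projective quotients.
-/

set_option autoImplicit false
set_option linter.unusedSectionVars false

open Matrix

namespace CfsgLib.GraphInv

variable {F : Type*} [Field F] {ι κ : Type} [Fintype ι] [DecidableEq ι] [Fintype κ] [DecidableEq κ]

/-- The matrices `h` with `hᵀ S h` a non-zero multiple of `S`. -/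
def simGroup (S : Matrix ι ι F) : Subgroup (GL ι F) where
  carrier := {h | ∃ c : Fˣ, (h : Matrix ι ι F)ᵀ * S * (h : Matrix ι ι F) = (c : F) • S}
  mul_mem' {a b} ha hb := by
    obtain ⟨c, hc⟩ := ha
    obtain ⟨d, hd⟩ := hb
    refine ⟨c * d, ?_⟩
    calc ((a * b : GL ι F) : Matrix ι ι F)ᵀ * S * ((a * b : GL ι F) : Matrix ι ι F)
        = (b : Matrix ι ι F)ᵀ * ((a : Matrix ι ι F)ᵀ * S * (a : Matrix ι ι F)) * (b : Matrix ι ι F) := by
          simp only [Units.val_mul, transpose_mul, mul_assoc]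
      _ = (c : F) • ((b : Matrix ι ι F)ᵀ * S * (b : Matrix ι ι F)) := by
          rw [hc, mul_smul_comm, smul_mul_assoc]
      _ = _ := by rw [hd, smul_smul, Units.val_mul]
  one_mem' := ⟨1, by simp⟩
  inv_mem' {a} ha := by
    obtain ⟨c, hc⟩ := ha
    refine ⟨c⁻¹, ?_⟩
    have h : ((a⁻¹ : GL ι F) : Matrix ι ι F)ᵀ * ((a : Matrix ι ι F)ᵀ * S * (a : Matrix ι ι F)) *
        ((a⁻¹ : GL ι F) : Matrix ι ι F) = S := by
      rw [← mul_assoc, ← mul_assoc, ← transpose_mul, ← Units.val_mul, mul_inv_cancel, Units.val_one,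
        transpose_one, one_mul, mul_assoc, ← Units.val_mul, mul_inv_cancel, Units.val_one, mul_one]
    rw [hc, mul_smul_comm, smul_mul_assoc] at h
    calc _ = ((c⁻¹ : Fˣ) : F) • ((c : F) • (((a⁻¹ : GL ι F) : Matrix ι ι F)ᵀ * S *
          ((a⁻¹ : GL ι F) : Matrix ι ι F))) := by rw [smul_smul, ← Units.val_mul, inv_mul_cancel, Units.val_one, one_smul]
      _ = _ := by rw [h]

theorem mem_simGroup {S : Matrix ι ι F} {h : GL ι F} :
    h ∈ simGroup S ↔ ∃ c : Fˣ, (h : Matrix ι ι F)ᵀ * S * (h : Matrix ι ι F) = (c : F) • S := Iff.rfl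

/-- The matrices `h` with `hᵀ S h = S`. -/
def isoGroup (S : Matrix ι ι F) : Subgroup (GL ι F) where
  carrier := {h | (h : Matrix ι ι F)ᵀ * S * (h : Matrix ι ι F) = S}
  mul_mem' {a b} ha hb := by
    show ((a * b : GL ι F) : Matrix ι ι F)ᵀ * S * ((a * b : GL ι F) : Matrix ι ι F) = S
    calc _ = (b : Matrix ι ι F)ᵀ * ((a : Matrix ι ι F)ᵀ * S * (a : Matrix ι ι F)) * (b : Matrix ι ι F) := by
          simp only [Units.val_mul, transpose_mul, mul_assoc]
      _ = S := by rw [ha]; exact hb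
  one_mem' := by simp
  inv_mem' {a} ha := by
    show ((a⁻¹ : GL ι F) : Matrix ι ι F)ᵀ * S * ((a⁻¹ : GL ι F) : Matrix ι ι F) = S
    conv_lhs => rw [← (show (a : Matrix ι ι F)ᵀ * S * (a : Matrix ι ι F) = S from ha)]
    rw [← mul_assoc, ← mul_assoc, ← transpose_mul, ← Units.val_mul, mul_inv_cancel, Units.val_one,
      transpose_one, one_mul, mul_assoc, ← Units.val_mul, mul_inv_cancel, Units.val_one, mul_one]

theorem mem_isoGroup {S : Matrix ι ι F} {h : GL ι F} :
    h ∈ isoGroup S ↔ (h : Matrix ι ι F)ᵀ * S * (h : Matrix ι ι F) = S := Iff.rfl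

theorem isoGroup_le (S : Matrix ι ι F) : isoGroup S ≤ simGroup S :=
  fun h hh => ⟨1, by rw [mem_isoGroup.mp hh, Units.val_one, one_smul]⟩

theorem scalars_le (S : Matrix ι ι F) : Cfsg.Geo.scalars ι F ≤ simGroup S := by
  intro g hg
  obtain ⟨c, hc⟩ := (Cfsg.Geo.mem_scalars_iff g).mp hg
  refine ⟨c * c, ?_⟩
  rw [hc]
  simp [transpose_smul, mul_smul_comm, smul_smul]

theorem det_sq {S : Matrix ι ι F} (hS : S.det ≠ 0) {h : GL ι F} {c : F}
    (e : (h : Matrix ι ι F)ᵀ * S * (h : Matrix ι ι F) = c • S) :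
    (h : Matrix ι ι F).det ^ 2 = c ^ Fintype.card ι := by
  have := congrArg Matrix.det e
  rw [det_mul, det_mul, det_transpose, det_smul] at this
  refine mul_left_injective₀ hS ?_
  linear_combination this

/-! ### Congruence up to scalars -/

/-- Congruence up to a non-zero scalar. -/
def Cong (S T : Matrix ι ι F) : Prop :=
  ∃ (P : GL ι F) (c : Fˣ), (P : Matrix ι ι F)ᵀ * S * (P : Matrix ι ι F) = (c : F) • T

theorem Cong.refl (S : Matrix ι ι F) : Cong S S := ⟨1, 1, by simp⟩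

theorem Cong.of_smul {S T : Matrix ι ι F} (c : Fˣ) (h : S = (c : F) • T) : Cong S T :=
  ⟨1, c, by simp [h]⟩

theorem Cong.symm {S T : Matrix ι ι F} (h : Cong S T) : Cong T S := by
  obtain ⟨P, c, e⟩ := h
  refine ⟨P⁻¹, c⁻¹, ?_⟩
  have h' : ((P⁻¹ : GL ι F) : Matrix ι ι F)ᵀ * ((P : Matrix ι ι F)ᵀ * S * (P : Matrix ι ι F)) *
      ((P⁻¹ : GL ι F) : Matrix ι ι F) = S := by
    rw [← mul_assoc, ← mul_assoc, ← transpose_mul, ← Units.val_mul, mul_inv_cancel, Units.val_one,
      transpose_one, one_mul, mul_assoc, ← Units.val_mul, mul_inv_cancel, Units.val_one, mul_one]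
  rw [e, mul_smul_comm, smul_mul_assoc] at h'
  calc _ = ((c⁻¹ : Fˣ) : F) • ((c : F) • (((P⁻¹ : GL ι F) : Matrix ι ι F)ᵀ * T *
        ((P⁻¹ : GL ι F) : Matrix ι ι F))) := by rw [smul_smul, ← Units.val_mul, inv_mul_cancel, Units.val_one, one_smul]
    _ = _ := by rw [h']

theorem Cong.trans {S T R : Matrix ι ι F} (h₁ : Cong S T) (h₂ : Cong T R) : Cong S R := by
  obtain ⟨P, c, e⟩ := h₁
  obtain ⟨Q, d, e'⟩ := h₂
  refine ⟨P * Q, c * d, ?_⟩
  calc ((P * Q : GL ι F) : Matrix ι ι F)ᵀ * S * ((P * Q : GL ι F) : Matrix ι ι F)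
      = (Q : Matrix ι ι F)ᵀ * ((P : Matrix ι ι F)ᵀ * S * (P : Matrix ι ι F)) * (Q : Matrix ι ι F) := by
        simp only [Units.val_mul, transpose_mul, mul_assoc]
    _ = (c : F) • ((Q : Matrix ι ι F)ᵀ * T * (Q : Matrix ι ι F)) := by rw [e, mul_smul_comm, smul_mul_assoc]
    _ = _ := by rw [e', smul_smul, Units.val_mul]

theorem Cong.transpose_eq {S T : Matrix ι ι F} (h : Cong S T) {ε : F} (hS : Sᵀ = ε • S) : Tᵀ = ε • T := by
  obtain ⟨P, c, e⟩ := h
  have h1 := congrArg Matrix.transpose e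
  rw [transpose_mul, transpose_mul, transpose_transpose, transpose_smul, hS, smul_mul_assoc, mul_smul_comm,
    ← mul_assoc, e, smul_smul, mul_comm, ← smul_smul] at h1
  exact (smul_right_injective (Matrix ι ι F) c.ne_zero h1).symm

theorem Cong.det_ne_zero {S T : Matrix ι ι F} (h : Cong S T) (hS : S.det ≠ 0) : T.det ≠ 0 := by
  obtain ⟨P, c, e⟩ := h
  intro h0
  have := congrArg Matrix.det e
  rw [det_mul, det_mul, det_transpose, det_smul, h0, mul_zero] at this
  exact mul_ne_zero (mul_ne_zero (Matrix.GeneralLinearGroup.det_ne_zero P) hS)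
    (Matrix.GeneralLinearGroup.det_ne_zero P) this

/-- In even dimension, congruence preserves the square class of the determinant. -/
theorem Cong.isSquare_det {S T : Matrix ι ι F} (h : Cong S T) (hn : Even (Fintype.card ι)) :
    IsSquare (S.det * T.det) := by
  obtain ⟨P, c, e⟩ := h
  obtain ⟨k, hk⟩ := hn
  have := congrArg Matrix.det e
  rw [det_mul, det_mul, det_transpose, det_smul, hk] at this
  refine ⟨S.det * (P : Matrix ι ι F).det / (c : F) ^ k, ?_⟩
  rw [div_mul_div_comm, eq_div_iff (mul_ne_zero (pow_ne_zero _ c.ne_zero) (pow_ne_zero _ c.ne_zero))]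
  linear_combination -S.det * this

theorem simGroup_map_conj {S T : Matrix ι ι F} {P : GL ι F} {c : Fˣ}
    (e : (P : Matrix ι ι F)ᵀ * S * (P : Matrix ι ι F) = (c : F) • T) :
    (simGroup T).map (MulAut.conj P).toMonoidHom = simGroup S := by
  have key : ∀ (h : GL ι F) (d : Fˣ),
      ((P * h * P⁻¹ : GL ι F) : Matrix ι ι F)ᵀ * S * ((P * h * P⁻¹ : GL ι F) : Matrix ι ι F) = (d : F) • S ↔
        (h : Matrix ι ι F)ᵀ * T * (h : Matrix ι ι F) = (d : F) • T := fun h d => by
    have h1 : ((P * h * P⁻¹ : GL ι F) : Matrix ι ι F)ᵀ * S * ((P * h * P⁻¹ : GL ι F) : Matrix ι ι F) =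
        ((P⁻¹ : GL ι F) : Matrix ι ι F)ᵀ * ((c : F) • ((h : Matrix ι ι F)ᵀ * T * (h : Matrix ι ι F))) *
          ((P⁻¹ : GL ι F) : Matrix ι ι F) := by
      rw [← smul_mul_assoc, ← mul_smul_comm, ← e]
      simp only [Units.val_mul, transpose_mul, mul_assoc]
    have h2 : (d : F) • S = ((P⁻¹ : GL ι F) : Matrix ι ι F)ᵀ * ((c : F) • ((d : F) • T)) *
        ((P⁻¹ : GL ι F) : Matrix ι ι F) := by
      rw [smul_comm, ← e, mul_smul_comm, smul_mul_assoc, ← mul_assoc, ← mul_assoc, ← transpose_mul,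
        ← Units.val_mul, mul_inv_cancel, Units.val_one, transpose_one, one_mul, mul_assoc, ← Units.val_mul,
        mul_inv_cancel, Units.val_one, mul_one]
    rw [h1, h2]
    refine ⟨fun h3 => ?_, fun h3 => by rw [h3]⟩
    have h4 := congrArg (fun X => (P : Matrix ι ι F)ᵀ * X * (P : Matrix ι ι F)) h3
    simp only [← mul_assoc, ← transpose_mul, ← Units.val_mul, inv_mul_cancel, Units.val_one, transpose_one,
      one_mul] at h4
    simp only [mul_assoc, ← Units.val_mul, inv_mul_cancel, Units.val_one, mul_one] at h4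
    rw [mul_assoc]
    exact smul_right_injective (Matrix ι ι F) c.ne_zero h4
  ext g
  constructor
  · rintro ⟨h, ⟨d, hd⟩, rfl⟩
    exact ⟨d, (key h d).mpr hd⟩
  · rintro ⟨d, hd⟩
    refine ⟨P⁻¹ * g * P, ⟨d, (key _ d).mp ?_⟩, ?_⟩
    · rwa [show P * (P⁻¹ * g * P) * P⁻¹ = g by group]
    · show P * (P⁻¹ * g * P) * P⁻¹ = g
      group

theorem scalars_normal (ι : Type) [Fintype ι] [DecidableEq ι] (F : Type*) [Field F] (g : GL ι F) :
    (Cfsg.Geo.scalars ι F).map (MulAut.conj g).toMonoidHom = Cfsg.Geo.scalars ι F := by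
  have hc : ∀ x ∈ Cfsg.Geo.scalars ι F, g * x * g⁻¹ = x := fun x hx => by
    obtain ⟨c, hc⟩ := (Cfsg.Geo.mem_scalars_iff x).mp hx
    have : g * x = x * g := Units.ext (by rw [Units.val_mul, Units.val_mul, hc]; simp)
    rw [this, mul_inv_cancel_right]
  ext x
  constructor
  · rintro ⟨y, hy, rfl⟩
    show g * y * g⁻¹ ∈ Cfsg.Geo.scalars ι F
    rw [hc y hy]
    exact hy
  · exact fun hx => ⟨x, hx, hc x hx⟩

/-- A group isomorphism carrying `H` to `K` and scalars to scalars. -/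
theorem nonempty_projQuot_congr {H : Subgroup (GL ι F)} {K : Subgroup (GL κ F)} (e : GL ι F ≃* GL κ F)
    (hH : H.map e.toMonoidHom = K) (hs : (Cfsg.Geo.scalars ι F).map e.toMonoidHom = Cfsg.Geo.scalars κ F) :
    Nonempty (Cfsg.projQuot H ≃* Cfsg.projQuot K) := by
  refine ⟨QuotientGroup.congr _ _ ((e.subgroupMap H).trans (MulEquiv.subgroupCongr hH)) ?_⟩
  ext x
  constructor
  · rintro ⟨y, hy, rfl⟩
    show e (y : GL ι F) ∈ Cfsg.Geo.scalars κ F
    exact hs ▸ Subgroup.mem_map_of_mem e.toMonoidHom hy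
  · intro hx
    have hx' : (x : GL κ F) ∈ H.map e.toMonoidHom := hH.symm ▸ x.2
    obtain ⟨y, hy, hyx⟩ := hx'
    refine ⟨⟨y, hy⟩, ?_, Subtype.ext hyx⟩
    show y ∈ Cfsg.Geo.scalars ι F
    have : (x : GL κ F) ∈ (Cfsg.Geo.scalars ι F).map e.toMonoidHom := hs.symm ▸ hx
    obtain ⟨z, hz, hzx⟩ := this
    exact e.injective (hzx.trans hyx.symm) ▸ hz

theorem Cong.nonempty_equiv {S T : Matrix ι ι F} (h : Cong S T) :
    Nonempty (Cfsg.projQuot (simGroup T) ≃* Cfsg.projQuot (simGroup S)) := by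
  obtain ⟨P, c, e⟩ := h
  exact nonempty_projQuot_congr (MulAut.conj P) (simGroup_map_conj e) (scalars_normal ι F P)

theorem Cong.det_map_eq {S T : Matrix ι ι F} (h : Cong S T) :
    (simGroup T).map Matrix.GeneralLinearGroup.det = (simGroup S).map Matrix.GeneralLinearGroup.det := by
  obtain ⟨P, c, e⟩ := h
  rw [← simGroup_map_conj e, Subgroup.map_map]
  congr 1
  ext1 g
  show _ = Matrix.GeneralLinearGroup.det (P * g * P⁻¹)
  rw [map_mul, map_mul, map_inv, mul_comm (Matrix.GeneralLinearGroup.det P), mul_inv_cancel_right]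

/-! ### Reindexing -/

/-- Renaming the coordinates. -/
def glReindex (F : Type*) [Field F] (e : ι ≃ κ) : GL ι F ≃* GL κ F :=
  Units.mapEquiv (Matrix.reindexAlgEquiv F F e).toMulEquiv

@[simp] theorem coe_glReindex (e : ι ≃ κ) (g : GL ι F) :
    (glReindex F e g : Matrix κ κ F) = Matrix.reindex e e (g : Matrix ι ι F) := rfl

theorem reindex_mul (e : ι ≃ κ) (A B : Matrix ι ι F) :
    Matrix.reindex e e (A * B) = Matrix.reindex e e A * Matrix.reindex e e B :=
  (Matrix.submatrix_mul_equiv A B _ e.symm _).symm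

theorem reindex_smul (e : ι ≃ κ) (c : F) (A : Matrix ι ι F) :
    Matrix.reindex e e (c • A) = c • Matrix.reindex e e A := rfl

theorem simGroup_reindex (e : ι ≃ κ) (S : Matrix ι ι F) :
    (simGroup S).map (glReindex F e).toMonoidHom = simGroup (Matrix.reindex e e S) := by
  have key : ∀ (g : GL ι F) (c : Fˣ),
      (glReindex F e g : Matrix κ κ F)ᵀ * Matrix.reindex e e S * (glReindex F e g : Matrix κ κ F) =
          (c : F) • Matrix.reindex e e S ↔
        (g : Matrix ι ι F)ᵀ * S * (g : Matrix ι ι F) = (c : F) • S := fun g c => by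
    rw [coe_glReindex, Matrix.transpose_reindex, ← reindex_mul, ← reindex_mul, ← reindex_smul,
      (Matrix.reindex e e).apply_eq_iff_eq]
  ext x
  constructor
  · rintro ⟨g, ⟨c, hc⟩, rfl⟩
    exact ⟨c, (key g c).mpr hc⟩
  · rintro ⟨c, hc⟩
    obtain ⟨g, rfl⟩ := (glReindex F e).surjective x
    exact ⟨g, ⟨c, (key g c).mp hc⟩, rfl⟩

theorem scalars_reindex (e : ι ≃ κ) :
    (Cfsg.Geo.scalars ι F).map (glReindex F e).toMonoidHom = Cfsg.Geo.scalars κ F := by
  have key : ∀ g : GL ι F, glReindex F e g ∈ Cfsg.Geo.scalars κ F ↔ g ∈ Cfsg.Geo.scalars ι F := fun g => by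
    rw [Cfsg.Geo.mem_scalars_iff, Cfsg.Geo.mem_scalars_iff]
    refine exists_congr fun c => ?_
    rw [coe_glReindex, show (c : F) • (1 : Matrix κ κ F) = Matrix.reindex e e ((c : F) • (1 : Matrix ι ι F)) by
      rw [reindex_smul]; simp, (Matrix.reindex e e).apply_eq_iff_eq]
  ext x
  constructor
  · rintro ⟨g, hg, rfl⟩
    exact (key g).mpr hg
  · intro hx
    obtain ⟨g, rfl⟩ := (glReindex F e).surjective x
    exact ⟨g, (key g).mp hx, rfl⟩

theorem nonempty_reindex_equiv (e : ι ≃ κ) (S : Matrix ι ι F) :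
    Nonempty (Cfsg.projQuot (simGroup S) ≃* Cfsg.projQuot (simGroup (Matrix.reindex e e S))) :=
  nonempty_projQuot_congr (glReindex F e) (simGroup_reindex e S) (scalars_reindex e)

theorem Cong.reindex (e : ι ≃ κ) {S T : Matrix ι ι F} (h : Cong S T) :
    Cong (Matrix.reindex e e S) (Matrix.reindex e e T) := by
  obtain ⟨P, c, hP⟩ := h
  refine ⟨glReindex F e P, c, ?_⟩
  rw [coe_glReindex, Matrix.transpose_reindex, ← reindex_mul, ← reindex_mul, hP, reindex_smul]

theorem det_glReindex (e : ι ≃ κ) (g : GL ι F) :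
    Matrix.GeneralLinearGroup.det (glReindex F e g) = Matrix.GeneralLinearGroup.det g :=
  Units.ext (Matrix.det_reindex_self e _)

theorem det_map_reindex (e : ι ≃ κ) (S : Matrix ι ι F) :
    (simGroup (Matrix.reindex e e S)).map Matrix.GeneralLinearGroup.det =
      (simGroup S).map Matrix.GeneralLinearGroup.det := by
  rw [← simGroup_reindex, Subgroup.map_map]
  congr 1
  ext1 g
  exact det_glReindex e g

/-! ### Removing the scalars -/

/-- If every element is an element of `K` times a scalar and `K` has no non-trivial scalar, the projective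
quotient is `K`. -/
theorem nonempty_projQuot_equiv_sub {H K : Subgroup (GL ι F)} (hKH : K ≤ H)
    (hdis : ∀ x ∈ K, x ∈ Cfsg.Geo.scalars ι F → x = 1)
    (hgen : ∀ x ∈ H, ∃ z ∈ Cfsg.Geo.scalars ι F, x * z ∈ K) :
    Nonempty (↥K ≃* Cfsg.projQuot H) := by
  refine ⟨MulEquiv.ofBijective ((QuotientGroup.mk' _).comp (Subgroup.inclusion hKH)) ⟨?_, ?_⟩⟩
  · refine (injective_iff_map_eq_one _).mpr fun x hx => Subtype.ext ?_
    have hx' : Subgroup.inclusion hKH x ∈ (Cfsg.Geo.scalars ι F).subgroupOf H := (QuotientGroup.eq_one_iff _).mp hx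
    exact hdis x x.2 hx'
  · intro y
    obtain ⟨⟨x, hx⟩, rfl⟩ := QuotientGroup.mk_surjective y
    obtain ⟨z, hz, hzK⟩ := hgen x hx
    refine ⟨⟨x * z, hzK⟩, ?_⟩
    refine ((QuotientGroup.eq).mpr ?_).symm
    show x⁻¹ * (x * z) ∈ Cfsg.Geo.scalars ι F
    rwa [inv_mul_cancel_left]

/-- The scalar matrix. -/
def scalarGL (u : Fˣ) : GL ι F := Units.map (Matrix.scalar ι : F →+* Matrix ι ι F).toMonoidHom u

theorem scalarGL_mem (u : Fˣ) : scalarGL u ∈ Cfsg.Geo.scalars ι F := ⟨u, rfl⟩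

theorem coe_scalarGL (u : Fˣ) : ((scalarGL u : GL ι F) : Matrix ι ι F) = (u : F) • 1 := by
  simp [scalarGL, Matrix.smul_one_eq_diagonal]

/-- In characteristic two the projective similarity group is the isometry group. -/
theorem nonempty_iso_equiv [CharP F 2] [Finite F] {S : Matrix ι ι F} (hS : S ≠ 0) :
    Nonempty (↥(isoGroup S) ≃* Cfsg.projQuot (simGroup S)) := by
  refine nonempty_projQuot_equiv_sub (isoGroup_le S) (fun x hx hxs => ?_) fun x hx => ?_
  · obtain ⟨c, hc⟩ := (Cfsg.Geo.mem_scalars_iff x).mp hxs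
    have hx' : (x : Matrix ι ι F)ᵀ * S * (x : Matrix ι ι F) = S := hx
    rw [hc] at hx'
    have h1 : ((c : F) * c) • S = (1 : F) • S := by
      rw [one_smul]
      simpa [transpose_smul, smul_smul] using hx'
    have h2 : (c : F) = 1 := CharTwo.sq_injective (by
      simpa [pow_two] using smul_left_injective F hS h1)
    exact Units.ext (by rw [hc, h2, one_smul]; rfl)
  · obtain ⟨c, hc⟩ := hx
    obtain ⟨w, hw⟩ := ((Finite.injective_iff_bijective).mp (CharTwo.sq_injective (R := F))).2 ((c⁻¹ : Fˣ) : F)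
    have hw' : w ^ 2 = ((c⁻¹ : Fˣ) : F) := hw
    have hw0 : w ≠ 0 := fun h0 => (c⁻¹).ne_zero (by rw [← hw', h0]; simp)
    refine ⟨scalarGL (Units.mk0 w hw0), scalarGL_mem _, ?_⟩
    rw [mem_isoGroup, Units.val_mul, coe_scalarGL, Units.val_mk0, mul_smul_comm, mul_one, transpose_smul,
      smul_mul_assoc, smul_mul_assoc, mul_smul_comm, hc, smul_smul, smul_smul, ← pow_two, hw', ← Units.val_mul,
      inv_mul_cancel, Units.val_one, one_smul]

/-- The order of a projective similarity group determines that of the similarity group. -/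
theorem card_projQuot [Finite F] {H : Subgroup (GL ι F)} (hH : Cfsg.Geo.scalars ι F ≤ H) :
    Nat.card (Cfsg.projQuot H) * Nat.card (Cfsg.Geo.scalars ι F) = Nat.card H := by
  rw [Subgroup.card_eq_card_quotient_mul_card_subgroup ((Cfsg.Geo.scalars ι F).subgroupOf H),
    Nat.card_congr (Subgroup.subgroupOfEquivOfLe hH).toEquiv]

theorem card_scalars [Nonempty ι] : Nat.card (Cfsg.Geo.scalars ι F) = Nat.card Fˣ := by
  refine (Nat.card_congr (MonoidHom.ofInjective ?_).toEquiv).symm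
  intro u v h
  have := congrArg (fun g : GL ι F => (g : Matrix ι ι F) (Classical.arbitrary ι) (Classical.arbitrary ι)) h
  exact Units.ext (by simpa using this)

/-- When every multiplier occurs, the order of the similarity group. -/
theorem card_simGroup {S : Matrix ι ι F} (hS : S ≠ 0)
    (hsurj : ∀ c : Fˣ, ∃ h : GL ι F, (h : Matrix ι ι F)ᵀ * S * (h : Matrix ι ι F) = (c : F) • S) :
    Nat.card (simGroup S) = Nat.card Fˣ * Nat.card (isoGroup S) := by
  have inj : ∀ c d : Fˣ, (c : F) • S = (d : F) • S → c = d := fun c d h =>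
    Units.ext (smul_left_injective F hS h)
  let mu : ↥(simGroup S) →* Fˣ :=
    { toFun := fun h => (mem_simGroup.mp h.2).choose
      map_one' := inj _ _ (by
        rw [← (mem_simGroup.mp (1 : ↥(simGroup S)).2).choose_spec]
        simp)
      map_mul' := fun a b => inj _ _ (by
        rw [← (mem_simGroup.mp (a * b : ↥(simGroup S)).2).choose_spec, Units.val_mul, ← smul_smul,
          ← (mem_simGroup.mp b.2).choose_spec, ← smul_mul_assoc, ← mul_smul_comm,
          ← (mem_simGroup.mp a.2).choose_spec]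
        simp only [Subgroup.coe_mul, Units.val_mul, transpose_mul, mul_assoc]) }
  have hmu : ∀ h : ↥(simGroup S), ((h : GL ι F) : Matrix ι ι F)ᵀ * S * ((h : GL ι F) : Matrix ι ι F) =
      (mu h : F) • S := fun h => (mem_simGroup.mp h.2).choose_spec
  have hker : mu.ker = (isoGroup S).subgroupOf (simGroup S) := by
    ext h
    rw [MonoidHom.mem_ker, Subgroup.mem_subgroupOf, mem_isoGroup, hmu]
    refine ⟨fun e => by rw [e, Units.val_one, one_smul], fun e => inj _ _ ?_⟩
    rw [e, Units.val_one, one_smul]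
  have hsu : Function.Surjective mu := fun c => by
    obtain ⟨h, hh⟩ := hsurj c
    exact ⟨⟨h, c, hh⟩, inj _ _ ((hmu ⟨h, c, hh⟩).symm.trans hh)⟩
  rw [Subgroup.card_eq_card_quotient_mul_card_subgroup mu.ker,
    Nat.card_congr (QuotientGroup.quotientKerEquivOfSurjective mu hsu).toEquiv, hker,
    Nat.card_congr (Subgroup.subgroupOfEquivOfLe (isoGroup_le S)).toEquiv]

/-! ### The groups of the statements -/

theorem similarityGroup_eq {S : Matrix ι ι F} {f : (ι → F) → (ι → F) → F}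
    (hf : ∀ u v, f u v = u ⬝ᵥ (S *ᵥ v)) : Cfsg.Geo.similarityGroup f = simGroup S := by
  have hb : ∀ (A : Matrix ι ι F) (u v : ι → F),
      u ⬝ᵥ ((Aᵀ * S * A) *ᵥ v) = (A *ᵥ u) ⬝ᵥ (S *ᵥ (A *ᵥ v)) := fun A u v => by
    rw [← mulVec_mulVec, ← mulVec_mulVec, dotProduct_mulVec, vecMul_transpose]
  ext g
  refine exists_congr fun c => ⟨fun h => ?_, fun h u v => ?_⟩
  · ext i j
    have := h (Pi.single i 1) (Pi.single j 1)
    rw [hf, hf, ← hb, mulVec_single_one, mulVec_single_one, single_one_dotProduct,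
      single_one_dotProduct] at this
    exact this
  · rw [hf, hf, ← hb, h, smul_mulVec, dotProduct_smul, smul_eq_mul]

theorem quad_congr_iff (h2 : (2 : F) ≠ 0) {S : Matrix ι ι F} (hsym : Sᵀ = S) {Q : (ι → F) → F}
    (hQ : ∀ v, 2 * Q v = v ⬝ᵥ (S *ᵥ v)) (g : GL ι F) (c : F) :
    (∀ v, Q ((g : Matrix ι ι F) *ᵥ v) = c * Q v) ↔ (g : Matrix ι ι F)ᵀ * S * (g : Matrix ι ι F) = c • S := by
  have hb : ∀ (A : Matrix ι ι F) (v : ι → F), v ⬝ᵥ ((Aᵀ * S * A) *ᵥ v) = (A *ᵥ v) ⬝ᵥ (S *ᵥ (A *ᵥ v)) := fun A v => by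
    rw [← mulVec_mulVec, ← mulVec_mulVec, dotProduct_mulVec, vecMul_transpose]
  refine ⟨fun h => ?_, fun h v => ?_⟩
  · have hs : ((g : Matrix ι ι F)ᵀ * S * (g : Matrix ι ι F) - c • S)ᵀ =
        (g : Matrix ι ι F)ᵀ * S * (g : Matrix ι ι F) - c • S := by
      rw [transpose_sub, transpose_mul, transpose_mul, transpose_transpose, transpose_smul, hsym, mul_assoc]
    have hq : ∀ v, v ⬝ᵥ (((g : Matrix ι ι F)ᵀ * S * (g : Matrix ι ι F) - c • S) *ᵥ v) = 0 := fun v => by
      rw [sub_mulVec, dotProduct_sub, hb, ← hQ, smul_mulVec, dotProduct_smul, ← hQ, h, smul_eq_mul]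
      ring
    refine sub_eq_zero.mp ?_
    set D := (g : Matrix ι ι F)ᵀ * S * (g : Matrix ι ι F) - c • S with hD
    ext i j
    have h1 := hq (Pi.single i 1)
    have h2' := hq (Pi.single j 1)
    have h3 := hq (Pi.single i 1 + Pi.single j 1)
    simp only [mulVec_add, mulVec_single_one, add_dotProduct, dotProduct_add, single_one_dotProduct] at h1 h2' h3
    have h4 : D j i = D i j := by
      conv_lhs => rw [← hs]
      rfl
    have : D i j * 2 = 0 := by
      change D i i + D j i + (D i j + D j j) = 0 at h3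
      change D i i = 0 at h1
      change D j j = 0 at h2'
      linear_combination h3 - h1 - h2' + h4 * (-1)
    exact (mul_eq_zero.mp this).resolve_right h2
  · refine mul_left_cancel₀ h2 ?_
    rw [hQ, ← hb, h, smul_mulVec, dotProduct_smul, ← hQ, smul_eq_mul]
    ring

theorem quadSimilarityGroup_eq (h2 : (2 : F) ≠ 0) {S : Matrix ι ι F} (hsym : Sᵀ = S) {Q : (ι → F) → F}
    (hQ : ∀ v, 2 * Q v = v ⬝ᵥ (S *ᵥ v)) : Cfsg.Geo.quadSimilarityGroup Q = simGroup S := by
  ext g
  exact exists_congr fun c => quad_congr_iff h2 hsym hQ g c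

theorem isometryGroup_eq (h2 : (2 : F) ≠ 0) {S : Matrix ι ι F} (hsym : Sᵀ = S) {Q : (ι → F) → F}
    (hQ : ∀ v, 2 * Q v = v ⬝ᵥ (S *ᵥ v)) : Cfsg.isometryGroup F Q = isoGroup S := by
  ext g
  refine Iff.trans ⟨fun h v => ?_, fun h v _ => ?_⟩ ((quad_congr_iff h2 hsym hQ g 1).trans (by rw [one_smul]; rfl))
  · rw [one_mul]; exact h v 0
  · show Q ((g : Matrix ι ι F) *ᵥ v) = Q v
    rw [h v, one_mul]

end CfsgLib.GraphInv
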