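import Cfsg.Agent.GraphInv.Mult
import Cfsg.Agent.Classical.SymplecticBlocks
import Cfsg.Agent.S0287
import Cfsg.Agent.S0288

/-!
The types of invertible symmetric or skew matrices on `Fin n`.
-/

set_option autoImplicit false
set_option linter.unusedSectionVars false

open Matrix

namespace CfsgLib.GraphInv

variable {F : Type*} [Field F] {ι κ : Type} [Fintype ι] [DecidableEq ι] [Fintype κ] [DecidableEq κ]
  {n m : ℕ}

/-- An invertible symmetric or skew matrix. -/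
def SymSkew (S : Matrix ι ι F) : Prop := S.det ≠ 0 ∧ (Sᵀ = S ∨ Sᵀ = -S)

theorem exists_reindex (e : ι ≃ κ) (S : Matrix κ κ F) :
    ∃ S' : Matrix ι ι F, S = Matrix.reindex e e S' ∧ S'.det = S.det ∧
      (Sᵀ = S → S'ᵀ = S') ∧ (Sᵀ = -S → S'ᵀ = -S') := by
  refine ⟨Matrix.reindex e.symm e.symm S, ?_, Matrix.det_reindex_self _ _, fun h => ?_, fun h => ?_⟩
  · ext i j; simp
  · rw [Matrix.transpose_reindex, h]
  · rw [Matrix.transpose_reindex, h]; rfl

theorem transpose_reindex_eq {e : ι ≃ κ} {S : Matrix ι ι F} (h : Sᵀ = S) :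
    (Matrix.reindex e e S)ᵀ = Matrix.reindex e e S := by
  rw [Matrix.transpose_reindex, h]

/-- The coordinates of even dimension. -/
noncomputable def evenIdx (hnm : n = 2 * m) : Fin m ⊕ Fin m ≃ Fin n :=
  Fintype.equivOfCardEq (by simp; omega)

/-- The coordinates of a minus form. -/
noncomputable def minusIdx {k : ℕ} (hnm : n = 2 * (k + 1)) : (Fin k ⊕ Fin k) ⊕ Fin 2 ≃ Fin n :=
  Fintype.equivOfCardEq (by simp; omega)

/-- The coordinates of odd dimension. -/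
noncomputable def oddIdx (hnm : n = 2 * m + 1) : Unit ⊕ (Fin m ⊕ Fin m) ≃ Fin n :=
  Fintype.equivOfCardEq (by simp; omega)

section OddQ

variable [Finite F] (h2 : (2 : F) ≠ 0)
include h2

theorem skew_cong (hnm : n = 2 * m) {S T : Matrix (Fin n) (Fin n) F} (hS : S.det ≠ 0) (hS' : Sᵀ = -S)
    (hT : T.det ≠ 0) (hT' : Tᵀ = -T) : Cong S T := by
  obtain ⟨A, rfl, hA, -, hAs⟩ := exists_reindex (evenIdx hnm) S
  obtain ⟨B, rfl, hB, -, hBs⟩ := exists_reindex (evenIdx hnm) T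
  exact ((cong_alt (isAltM_of_skew h2 (hAs hS')) (hA ▸ hS)).trans
    (cong_alt (isAltM_of_skew h2 (hBs hT')) (hB ▸ hT)).symm).reindex _

theorem skew_data (hnm : n = 2 * m) {S : Matrix (Fin n) (Fin n) F} (hS : S.det ≠ 0) (hS' : Sᵀ = -S) :
    Nonempty (Cfsg.projQuot (simGroup S) ≃* Cfsg.PGSp m F) ∧ MultSurj S m 1 ∧ DetExact S m := by
  obtain ⟨A, rfl, hA, -, hAs⟩ := exists_reindex (evenIdx hnm) S
  have h := cong_alt (isAltM_of_skew h2 (hAs hS')) (hA ▸ hS)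
  obtain ⟨e₁⟩ := nonempty_reindex_equiv (evenIdx hnm) A
  obtain ⟨e₂⟩ := h.nonempty_equiv
  obtain ⟨e₃⟩ := PGSp_equiv (F := F) (m := m)
  exact ⟨⟨(e₁.symm.trans e₂.symm).trans e₃⟩, (multSurj_J.cong h).reindex _, (detExact_J.cong h).reindex _⟩

theorem exists_aniso : ∃ a b : F, ∀ z₁ z₂ : F, z₁ ^ 2 + a * z₁ * z₂ + b * z₂ ^ 2 = 0 → z₁ = 0 ∧ z₂ = 0 := by
  obtain ⟨α, hα⟩ := FiniteField.exists_nonsquare (F := F) (by
    intro hchar
    have := ringChar.charP F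
    rw [hchar] at this
    exact h2 (CharTwo.two_eq_zero))
  refine ⟨0, -α, fun z₁ z₂ h => ?_⟩
  rcases eq_or_ne z₂ 0 with rfl | hz
  · simpa using h
  · refine absurd ⟨z₁ / z₂, ?_⟩ hα
    field_simp
    linear_combination -h

omit [Finite F] in
theorem disc_not_square {a b : F}
    (hab : ∀ z₁ z₂ : F, z₁ ^ 2 + a * z₁ * z₂ + b * z₂ ^ 2 = 0 → z₁ = 0 ∧ z₂ = 0) :
    ¬ IsSquare (a ^ 2 - 4 * b) := by
  rintro ⟨r, hr⟩
  have h4 : (4 : F) ≠ 0 := by rw [show (4 : F) = 2 * 2 by norm_num]; exact mul_ne_zero h2 h2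
  have := hab ((r - a) / 2) 1 (by
    field_simp
    linear_combination -hr)
  exact one_ne_zero this.2

theorem mul_isSquare {x y : F} (hx : ¬ IsSquare x) (hy : ¬ IsSquare y) : IsSquare (x * y) := by
  obtain ⟨r, hr⟩ := CfsgLib.Forms.isSquare_div_of_nonsquare h2 hx hy
  have hy0 : y ≠ 0 := by rintro rfl; exact hy ⟨0, by simp⟩
  refine ⟨r * y, ?_⟩
  rw [div_eq_iff hy0] at hr
  rw [hr]; ring

theorem sym_plus (hnm : n = 2 * m) {S : Matrix (Fin n) (Fin n) F} (hS : S.det ≠ 0) (hS' : Sᵀ = S)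
    (hsq : IsSquare (S.det * (-1) ^ m)) : Cong S (Matrix.reindex (evenIdx hnm) (evenIdx hnm) (hypP F m)) := by
  obtain ⟨A, rfl, hA, hAs, -⟩ := exists_reindex (evenIdx hnm) S
  exact (cong_of_isSquare_det h2 (hAs hS') hypP_transpose (hA ▸ hS) (by rw [det_hypP]; simp)
    (by rw [det_hypP, hA]; exact hsq)).reindex _

theorem sym_minus {k : ℕ} (hnm : n = 2 * (k + 1)) {S : Matrix (Fin n) (Fin n) F} (hS : S.det ≠ 0) (hS' : Sᵀ = S)
    (hsq : ¬ IsSquare (S.det * (-1) ^ (k + 1))) {a b : F}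
    (hab : ∀ z₁ z₂ : F, z₁ ^ 2 + a * z₁ * z₂ + b * z₂ ^ 2 = 0 → z₁ = 0 ∧ z₂ = 0) :
    Cong S (Matrix.reindex (minusIdx hnm) (minusIdx hnm) (minusP F k a b)) := by
  obtain ⟨A, rfl, hA, hAs, -⟩ := exists_reindex (minusIdx hnm) S
  have hd := disc_not_square h2 hab
  refine (cong_of_isSquare_det h2 (hAs hS') (minusP_transpose a b) (hA ▸ hS) ?_ ?_).reindex _
  · rw [det_minusP]
    refine mul_ne_zero (by simp) fun h => hd ⟨0, ?_⟩
    linear_combination -h
  · rw [det_minusP]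
    have h3 := mul_isSquare h2 hsq hd
    have h4 : A.det * ((-1) ^ k * (4 * b - a ^ 2)) =
        (Matrix.reindex (minusIdx hnm) (minusIdx hnm) A).det * (-1) ^ (k + 1) * (a ^ 2 - 4 * b) := by
      rw [← hA, pow_succ]; ring
    rw [h4]
    exact h3

theorem plus_data (hnm : n = 2 * m) [NeZero m] {S : Matrix (Fin n) (Fin n) F} (hS : S.det ≠ 0) (hS' : Sᵀ = S)
    (hsq : IsSquare (S.det * (-1) ^ m)) :
    Nonempty (Cfsg.projQuot (simGroup S) ≃* Cfsg.PGO F (Cfsg.quadFormPlus m F)) ∧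
      ∀ δ : F, δ = 1 ∨ δ = -1 → MultSurj S m δ := by
  have h := sym_plus h2 hnm hS hS' hsq
  obtain ⟨e₁⟩ := h.nonempty_equiv
  obtain ⟨e₂⟩ := nonempty_reindex_equiv (evenIdx hnm) (hypP F m)
  obtain ⟨e₃⟩ := PGO_plus_equiv (m := m) h2
  exact ⟨⟨(e₁.symm.trans e₂.symm).trans e₃⟩, fun δ hδ => ((multSurj_hypP δ hδ).reindex _).cong h⟩

theorem minus_data {k : ℕ} (hnm : n = 2 * (k + 1)) {S : Matrix (Fin n) (Fin n) F} (hS : S.det ≠ 0) (hS' : Sᵀ = S)
    (hsq : ¬ IsSquare (S.det * (-1) ^ (k + 1))) {a b : F}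
    (hab : ∀ z₁ z₂ : F, z₁ ^ 2 + a * z₁ * z₂ + b * z₂ ^ 2 = 0 → z₁ = 0 ∧ z₂ = 0) :
    Nonempty (Cfsg.projQuot (simGroup S) ≃* Cfsg.PGO F (Cfsg.quadFormMinus k F a b)) ∧
      ∀ δ : F, δ = 1 ∨ δ = -1 → MultSurj S (k + 1) δ := by
  have h := sym_minus h2 hnm hS hS' hsq hab
  obtain ⟨e₁⟩ := h.nonempty_equiv
  obtain ⟨e₂⟩ := nonempty_reindex_equiv (minusIdx hnm) (minusP F k a b)
  obtain ⟨e₃⟩ := PGO_minus_equiv (m := k) h2 a b
  refine ⟨⟨(e₁.symm.trans e₂.symm).trans e₃⟩, fun δ hδ =>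
    ((multSurj_minusP h2 (fun h0 => disc_not_square h2 hab ⟨0, by linear_combination -h0⟩) δ hδ).reindex _).cong h⟩

theorem sym_mult (hnm : n = 2 * m) (hm : 1 ≤ m) {S : Matrix (Fin n) (Fin n) F} (hS : S.det ≠ 0) (hS' : Sᵀ = S)
    {δ : F} (hδ : δ = 1 ∨ δ = -1) : MultSurj S m δ := by
  have : NeZero m := ⟨by omega⟩
  by_cases hsq : IsSquare (S.det * (-1) ^ m)
  · exact (plus_data h2 hnm hS hS' hsq).2 δ hδ
  · obtain ⟨k, rfl⟩ := Nat.exists_eq_add_of_le' hm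
    obtain ⟨a, b, hab⟩ := exists_aniso h2
    exact (minus_data h2 hnm hS hS' hsq hab).2 δ hδ

/-- The orthogonal types are not isomorphic to the symplectic one. -/
theorem sym_not_PGSp (hnm : n = 2 * m) (hm : 2 ≤ m) {S : Matrix (Fin n) (Fin n) F} (hS : S.det ≠ 0)
    (hS' : Sᵀ = S) : IsEmpty (Cfsg.projQuot (simGroup S) ≃* Cfsg.PGSp m F) := by
  refine ⟨fun e => ?_⟩
  cases nonempty_fintype F
  set q := Nat.card F with hq
  have hq2 : 2 ≤ q := Finite.one_lt_card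
  have : NeZero m := ⟨by omega⟩
  have hcard : Nat.card Fˣ * Nat.card (isoGroup S) =
      Nat.card Fˣ * Nat.card (isoGroup (Matrix.J (Fin m) F)) := by
    have h1 := card_projQuot (scalars_le S)
    have h2' := card_projQuot (scalars_le (Matrix.J (Fin m) F))
    have : Nonempty (Fin n) := ⟨⟨0, by omega⟩⟩
    have : Nonempty (Fin m ⊕ Fin m) := ⟨Sum.inl ⟨0, by omega⟩⟩
    rw [card_scalars] at h1 h2'
    rw [← card_simGroup (fun h => hS (by rw [h, det_zero]))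
        (fun c => (sym_mult h2 hnm (by omega) hS hS' (Or.inl rfl) c).imp fun _ h => h.1),
      ← card_simGroup (S := Matrix.J (Fin m) F)
        (fun h => (Matrix.isUnit_det_J (Fin m) F).ne_zero (by rw [h, det_zero]))
        (fun c => (multSurj_J c).imp fun _ h => h.1), ← h1, ← h2']
    congr 1
    obtain ⟨e'⟩ := PGSp_equiv (F := F) (m := m)
    exact Nat.card_congr (e.trans e'.symm).toEquiv
  have hSp := Nat.eq_of_mul_eq_mul_left Nat.card_pos hcard
  rw [← Nat.card_congr (spEquiv (F := F) (m := m)).toEquiv, CfsgLib.Symp.card_Sp, ← hq] at hSp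
  obtain ⟨k, rfl⟩ := Nat.exists_eq_add_of_le' (show 1 ≤ m by omega)
  obtain ⟨a, b, hab⟩ := exists_aniso h2
  have iso : ∀ {S T : Matrix (Fin n) (Fin n) F}, Cong S T →
      (∀ c : Fˣ, ∃ h : GL (Fin n) F, (h : Matrix _ _ F)ᵀ * S * (h : Matrix _ _ F) = (c : F) • S) → S ≠ 0 →
      (∀ c : Fˣ, ∃ h : GL (Fin n) F, (h : Matrix _ _ F)ᵀ * T * (h : Matrix _ _ F) = (c : F) • T) → T ≠ 0 →
      Nat.card (isoGroup S) = Nat.card (isoGroup T) := by
    intro S T ⟨P, c, hP⟩ hs hs0 ht ht0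
    refine Nat.eq_of_mul_eq_mul_left (Nat.card_pos : 0 < Nat.card Fˣ) ?_
    rw [← card_simGroup hs0 hs, ← card_simGroup ht0 ht, ← simGroup_map_conj hP]
    exact (Nat.card_congr ((simGroup T).equivMapOfInjective _ (MulAut.conj P).injective).toEquiv).symm
  have reindex_iso : ∀ {κ : Type} [Fintype κ] [DecidableEq κ] (e : κ ≃ Fin n) (T : Matrix κ κ F),
      Nat.card (isoGroup (Matrix.reindex e e T)) = Nat.card (isoGroup T) := by
    intro κ _ _ e T
    refine Nat.card_congr (Equiv.subtypeEquiv (glReindex F e).toEquiv fun g => ?_).symm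
    show g ∈ isoGroup T ↔ glReindex F e g ∈ isoGroup (Matrix.reindex e e T)
    rw [mem_isoGroup, mem_isoGroup]
    simpa using (glReindex_sim (e := e) (S := T) (g := g) (c := 1)).symm
  have : Nonempty (Fin n) := ⟨⟨0, by omega⟩⟩
  have hne : ∀ {T : Matrix (Fin n) (Fin n) F}, Cong S T → T ≠ 0 := fun hT h => hT.det_ne_zero hS (by
    rw [h, det_zero])
  have hsurjS : ∀ c : Fˣ, ∃ h : GL (Fin n) F, (h : Matrix _ _ F)ᵀ * S * (h : Matrix _ _ F) = (c : F) • S :=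
    fun c => (sym_mult h2 hnm (by omega) hS hS' (Or.inl rfl) c).imp fun _ h => h.1
  have hS0 : S ≠ 0 := hne (Cong.refl S)
  have hbound : Nat.card (isoGroup S) ≤
      2 * q ^ ((k + 1) * k) * (q ^ (k + 1) + 1) * ∏ i ∈ Finset.range k, (q ^ (2 * (i + 1)) - 1) := by
    by_cases hsq : IsSquare (S.det * (-1) ^ (k + 1))
    · have hc := sym_plus h2 hnm hS hS' hsq
      rw [iso hc hsurjS hS0 (fun c => (((multSurj_hypP 1 (Or.inl rfl)).reindex _) c).imp fun _ h => h.1) (hne hc),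
        reindex_iso, ← isometryGroup_eq h2 hypP_transpose two_quadPlus,
        Cfsg.Agent.S0287.result (q := q) (by rw [hq, Nat.card_eq_fintype_card]) (k + 1) (by omega),
        Nat.add_sub_cancel]
      gcongr
      omega
    · have hc := sym_minus h2 hnm hS hS' hsq hab
      rw [iso hc hsurjS hS0 (fun c => (((multSurj_minusP h2
          (fun h0 => disc_not_square h2 hab ⟨0, by linear_combination -h0⟩) 1 (Or.inl rfl)).reindex _) c).imp
            fun _ h => h.1) (hne hc),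
        reindex_iso, ← isometryGroup_eq h2 (minusP_transpose a b) (two_quadMinus a b)]
      have h288 := Cfsg.Agent.S0288.result (q := q) (by rw [hq, Nat.card_eq_fintype_card]) (k + 1) (by omega) a b hab
      rw [Nat.add_sub_cancel] at h288
      rw [h288]
  rw [hSp, Finset.prod_range_succ, show (k + 1) ^ 2 = (k + 1) * k + (k + 1) by ring, pow_add] at hbound
  have hP : 0 < ∏ i ∈ Finset.range k, (q ^ (2 * (i + 1)) - 1) := Finset.prod_pos fun i _ => by
    have : 2 ≤ q ^ (2 * (i + 1)) := le_trans hq2 (Nat.le_self_pow (by omega) q)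
    omega
  have hA : 0 < q ^ ((k + 1) * k) := by positivity
  have hQ : 3 ≤ q ^ (k + 1) := by
    have : q ^ 2 ≤ q ^ (k + 1) := Nat.pow_le_pow_right (by omega) (by omega)
    nlinarith
  rw [show q ^ (2 * (k + 1)) = q ^ (k + 1) * q ^ (k + 1) by rw [← pow_add]; ring_nf] at hbound
  set Q := q ^ (k + 1)
  have hkey : 2 * (Q + 1) < Q * (Q * Q - 1) := by
    have : 1 ≤ Q * Q := by nlinarith
    zify [this]
    nlinarith
  have := Nat.mul_lt_mul_of_pos_right (Nat.mul_lt_mul_of_pos_left hkey hA) hP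
  linarith [show q ^ ((k + 1) * k) * Q * ((∏ i ∈ Finset.range k, (q ^ (2 * (i + 1)) - 1)) * (Q * Q - 1)) =
    q ^ ((k + 1) * k) * (Q * (Q * Q - 1)) * ∏ i ∈ Finset.range k, (q ^ (2 * (i + 1)) - 1) by ring,
    show 2 * q ^ ((k + 1) * k) * (Q + 1) * (∏ i ∈ Finset.range k, (q ^ (2 * (i + 1)) - 1)) =
    q ^ ((k + 1) * k) * (2 * (Q + 1)) * ∏ i ∈ Finset.range k, (q ^ (2 * (i + 1)) - 1) by ring]

end OddQ

theorem two_ne_zero_of_odd [Fintype F] (hodd : Odd (Fintype.card F)) : (2 : F) ≠ 0 := fun h2 => by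
  have : CharP F 2 := CharTwo.of_one_ne_zero_of_two_eq_zero one_ne_zero h2
  have := FiniteField.even_card_of_char_two (F := F) (ringChar.eq F 2)
  exact Nat.not_even_iff_odd.mpr hodd (Nat.even_iff.mpr this)

theorem charP_two_of_card [Fintype F] {p f : ℕ} (hF : Fintype.card F = p ^ f) (hp : p = 2) (_hf : 1 ≤ f) :
    CharP F 2 := by
  refine CharTwo.of_one_ne_zero_of_two_eq_zero one_ne_zero ?_
  subst hp
  have h := FiniteField.cast_card_eq_zero F
  rw [hF, Nat.cast_pow] at h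
  simpa using eq_zero_of_pow_eq_zero h

theorem isSquare_neg_one_pow_iff [Fintype F] (hodd : Odd (Fintype.card F)) (hnm : n = 2 * m) :
    IsSquare ((-1 : F) ^ m) ↔ Even (n * (Fintype.card F - 1) / 4) := by
  obtain ⟨j, hj⟩ := hodd
  have h1 : n * (Fintype.card F - 1) / 4 = m * j := by
    rw [hnm, hj, Nat.add_sub_cancel, show 2 * m * (2 * j) = 4 * (m * j) by ring, Nat.mul_div_cancel_left _ (by norm_num)]
  rw [h1, Nat.even_mul]
  rcases Nat.even_or_odd m with hm | hm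
  · exact ⟨fun _ => Or.inl hm, fun _ => by rw [hm.neg_one_pow]; exact IsSquare.one⟩
  · rw [hm.neg_one_pow, FiniteField.isSquare_neg_one_iff, hj]
    constructor
    · intro h; exact Or.inr (Nat.even_iff.mpr (by omega))
    · rintro (h | h)
      · exact absurd h (Nat.not_even_iff_odd.mpr hm)
      · have := Nat.even_iff.mp h; omega

theorem det_reindex_J (hnm : n = 2 * m) :
    (Matrix.reindex (evenIdx hnm) (evenIdx hnm) (Matrix.J (Fin m) F)).det = 1 := by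
  rw [det_reindex_self, det_J_one]

/-- Representatives of the three types. -/
theorem even_reps [Finite F] (h2 : (2 : F) ≠ 0) {k : ℕ} (hnm : n = 2 * (k + 1)) {a b : F}
    (hab : ∀ z₁ z₂ : F, z₁ ^ 2 + a * z₁ * z₂ + b * z₂ ^ 2 = 0 → z₁ = 0 ∧ z₂ = 0) :
    ∃ S₁ S₂ S₃ : Matrix (Fin n) (Fin n) F, SymSkew S₁ ∧ SymSkew S₂ ∧ SymSkew S₃ ∧
      S₁ᵀ = -S₁ ∧ S₂ᵀ = S₂ ∧ S₃ᵀ = S₃ ∧
      IsSquare (S₂.det * (-1) ^ (k + 1)) ∧ ¬ IsSquare (S₃.det * (-1) ^ (k + 1)) := by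
  have hd := disc_not_square h2 hab
  have hJ : (Matrix.reindex (evenIdx hnm) (evenIdx hnm) (Matrix.J (Fin (k + 1)) F))ᵀ =
      -Matrix.reindex (evenIdx hnm) (evenIdx hnm) (Matrix.J (Fin (k + 1)) F) := by
    rw [Matrix.transpose_reindex, Matrix.J_transpose]; rfl
  refine ⟨_, Matrix.reindex (evenIdx hnm) (evenIdx hnm) (hypP F (k + 1)),
    Matrix.reindex (minusIdx hnm) (minusIdx hnm) (minusP F k a b),
    ⟨by rw [det_reindex_J]; exact one_ne_zero, Or.inr hJ⟩,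
    ⟨by rw [det_reindex_self, det_hypP]; simp, Or.inl (transpose_reindex_eq hypP_transpose)⟩,
    ⟨?_, Or.inl (transpose_reindex_eq (minusP_transpose a b))⟩, hJ, transpose_reindex_eq hypP_transpose,
    transpose_reindex_eq (minusP_transpose a b), ?_, ?_⟩
  · rw [det_reindex_self, det_minusP]
    exact mul_ne_zero (by simp) fun h => hd ⟨0, by linear_combination -h⟩
  · rw [det_reindex_self, det_hypP]; exact ⟨(-1) ^ (k + 1), rfl⟩
  · rw [det_reindex_self, det_minusP]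
    rintro ⟨r, hr⟩
    refine hd ⟨r, ?_⟩
    have hp : ((-1 : F) ^ k) ^ 2 = 1 := by rw [← pow_mul, mul_comm, pow_mul, neg_one_sq, one_pow]
    rw [← hr, pow_succ]
    linear_combination -(a ^ 2 - 4 * b) * hp

theorem not_cong (h2 : (2 : F) ≠ 0) (hnm : n = 2 * m) (hn0 : 0 < n) {S T : Matrix (Fin n) (Fin n) F} (h : Cong S T) :
    (Sᵀ = -S → S.det ≠ 0 → Tᵀ ≠ T) ∧
      (S.det ≠ 0 → IsSquare (S.det * (-1) ^ m) → IsSquare (T.det * (-1) ^ m)) := by
  refine ⟨fun hS hd hT => ?_, fun hd hsq => ?_⟩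
  · have h1 := h.transpose_eq (ε := -1) (by rw [hS, neg_smul, one_smul])
    rw [hT, neg_smul, one_smul] at h1
    refine h.det_ne_zero hd ?_
    have h3 : T = 0 := by
      ext i j
      have h4 := congrFun (congrFun h1 i) j
      simp only [Matrix.neg_apply] at h4
      have h5 : (2 : F) * T i j = 0 := by linear_combination h4
      exact (mul_eq_zero.mp h5).resolve_left h2
    have : Nonempty (Fin n) := ⟨⟨0, hn0⟩⟩
    rw [h3, det_zero]
  · obtain ⟨r, hr⟩ := hsq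
    obtain ⟨s, hs⟩ := h.isSquare_det (by simp [hnm])
    refine ⟨s * r / S.det, ?_⟩
    rw [div_mul_div_comm, eq_div_iff (mul_ne_zero hd hd)]
    linear_combination (S.det * (-1) ^ m) * hs + (s * s) * hr

theorem even_cover [Finite F] (h2 : (2 : F) ≠ 0) {k : ℕ} (hnm : n = 2 * (k + 1)) {a b : F}
    (hab : ∀ z₁ z₂ : F, z₁ ^ 2 + a * z₁ * z₂ + b * z₂ ^ 2 = 0 → z₁ = 0 ∧ z₂ = 0)
    {S₁ S₂ S₃ S : Matrix (Fin n) (Fin n) F} (h₁ : SymSkew S₁) (k₁ : S₁ᵀ = -S₁)
    (h₂ : SymSkew S₂) (k₂ : S₂ᵀ = S₂) (s₂ : IsSquare (S₂.det * (-1) ^ (k + 1)))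
    (h₃ : SymSkew S₃) (k₃ : S₃ᵀ = S₃) (s₃ : ¬ IsSquare (S₃.det * (-1) ^ (k + 1))) (hS : SymSkew S) :
    Cong S₁ S ∨ Cong S₂ S ∨ Cong S₃ S := by
  rcases hS.2 with h | h
  · by_cases hsq : IsSquare (S.det * (-1) ^ (k + 1))
    · exact Or.inr (Or.inl ((sym_plus h2 hnm h₂.1 k₂ s₂).trans (sym_plus h2 hnm hS.1 h hsq).symm))
    · exact Or.inr (Or.inr ((sym_minus h2 hnm h₃.1 k₃ s₃ hab).trans (sym_minus h2 hnm hS.1 h hsq hab).symm))
  · exact Or.inl (skew_cong h2 hnm h₁.1 k₁ hS.1 h)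

theorem symSkew_of_two [CharP F 2] {S : Matrix ι ι F} (h : SymSkew S) : Sᵀ = S := by
  rcases h.2 with h | h
  · exact h
  · rw [h]; ext i j; exact CharTwo.neg_eq _

/-- Odd dimension. -/
theorem odd_case [Finite F] (hnm : n = 2 * m + 1) :
    ∃ S₀ : Matrix (Fin n) (Fin n) F, SymSkew S₀ ∧
      Nonempty (Cfsg.projQuot (simGroup S₀) ≃* Cfsg.PGO F (Cfsg.quadFormOdd m F)) ∧
      ∀ S : Matrix (Fin n) (Fin n) F, SymSkew S → Cong S S₀ := by
  set e := oddIdx hnm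
  have hcard : Odd (Fintype.card (Unit ⊕ (Fin m ⊕ Fin m))) := by simp
  by_cases h2 : (2 : F) = 0
  · haveI : CharP F 2 := CharTwo.of_one_ne_zero_of_two_eq_zero one_ne_zero h2
    have hdet : (oddTwo F m).det ≠ 0 := by
      rw [oddTwo, det_fromBlocks_zero₂₁, det_one, one_mul]
      exact (Matrix.isUnit_det_J (Fin m) F).ne_zero
    have hsym : (oddTwo F m)ᵀ = oddTwo F m := by
      rw [oddTwo, fromBlocks_transpose, J_transpose, transpose_one, transpose_zero, transpose_zero]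
      congr 1
      ext i j; exact CharTwo.neg_eq _
    refine ⟨Matrix.reindex e e (oddTwo F m), ⟨by rwa [det_reindex_self], Or.inl (transpose_reindex_eq hsym)⟩, ?_,
      fun S hS => ?_⟩
    · obtain ⟨e₁⟩ := nonempty_reindex_equiv e (oddTwo F m)
      obtain ⟨e₂⟩ := oddTwo_equiv (F := F) (m := m)
      obtain ⟨e₃⟩ := PGO_odd_two_equiv (F := F) (m := m)
      exact ⟨(e₁.symm.trans e₂).trans e₃.symm⟩
    · obtain ⟨A, rfl, hA, hAs, -⟩ := exists_reindex e S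
      exact (cong_oddTwo (hAs (symSkew_of_two hS)) (hA ▸ hS.1)).reindex e
  · refine ⟨Matrix.reindex e e (oddP F m), ⟨?_, Or.inl (transpose_reindex_eq oddP_transpose)⟩, ?_, fun S hS => ?_⟩
    · rw [det_reindex_self, det_oddP]; exact mul_ne_zero h2 (by simp)
    · obtain ⟨e₁⟩ := nonempty_reindex_equiv e (oddP F m)
      obtain ⟨e₂⟩ := PGO_odd_equiv (m := m) h2
      exact ⟨e₁.symm.trans e₂⟩
    · obtain ⟨A, rfl, hA, hAs, hAk⟩ := exists_reindex e S
      refine (cong_symm_odd h2 ?_ oddP_transpose (hA ▸ hS.1) (by rw [det_oddP]; exact mul_ne_zero h2 (by simp))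
        hcard).reindex e
      rcases hS.2 with h | h
      · exact hAs h
      · exact absurd (det_eq_zero_of_alt_odd (isAltM_of_skew h2 (hAk h)) hcard) (hA ▸ hS.1)

/-- Even dimension, characteristic two. -/
theorem two_case [CharP F 2] [Finite F] (hnm : n = 2 * m) (hm : 1 ≤ m) :
    ∃ (S₁ S₃ : Matrix (Fin n) (Fin n) F) (t : ↥(Matrix.symplecticGroup (Fin m) F)),
      Cfsg.IsTransvection (t : Matrix (Fin m ⊕ Fin m) (Fin m ⊕ Fin m) F) ∧ SymSkew S₁ ∧ SymSkew S₃ ∧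
      ¬ Cong S₁ S₃ ∧ (∀ S : Matrix (Fin n) (Fin n) F, SymSkew S → Cong S S₁ ∨ Cong S S₃) ∧
      Nonempty (Cfsg.projQuot (simGroup S₁) ≃* ↥(Matrix.symplecticGroup (Fin m) F)) ∧
      Nonempty (Cfsg.projQuot (simGroup S₃) ≃*
        ↥(Subgroup.centralizer ({t} : Set ↥(Matrix.symplecticGroup (Fin m) F)))) := by
  have : NeZero m := ⟨by omega⟩
  set e := evenIdx hnm
  obtain ⟨t, ht, ⟨et⟩⟩ := evenTwo_equiv (F := F) (m := m)
  have hJs : (Matrix.J (Fin m) F)ᵀ = Matrix.J (Fin m) F := by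
    rw [J_transpose]; ext i j; exact CharTwo.neg_eq _
  have hEs : (evenTwo F m)ᵀ = evenTwo F m := by
    rw [evenTwo, transpose_add, transpose_vecMulVec, hJs]
  have hE0 : (evenTwo F m).det ≠ 0 := by
    intro h
    obtain ⟨v, hv, hv'⟩ := Matrix.exists_mulVec_eq_zero_iff.mpr h
    set l : Fin m ⊕ Fin m → F := Pi.single (Sum.inr 0) 1 with hl
    have h1 := congrArg (fun w => v ⬝ᵥ w) hv'
    simp only [evenTwo, add_mulVec, vecMulVec_mulVec, op_smul_eq_smul, dotProduct_add, dotProduct_smul,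
      dotProduct_zero, isAltM_J.self_eq_zero, zero_add, smul_eq_mul, dotProduct_comm v l, mul_self_eq_zero,
      ← hl] at h1
    rw [evenTwo, add_mulVec, vecMulVec_mulVec, op_smul_eq_smul, ← hl, h1, zero_smul, add_zero] at hv'
    exact hv (Matrix.eq_zero_of_mulVec_eq_zero (Matrix.isUnit_det_J (Fin m) F).ne_zero hv')
  refine ⟨Matrix.reindex e e (Matrix.J (Fin m) F), Matrix.reindex e e (evenTwo F m), t, ht,
    ⟨by rw [det_reindex_self]; exact (Matrix.isUnit_det_J (Fin m) F).ne_zero, Or.inl (transpose_reindex_eq hJs)⟩,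
    ⟨by rwa [det_reindex_self], Or.inl (transpose_reindex_eq hEs)⟩, ?_, fun S hS => ?_, ?_, ?_⟩
  · intro h
    have h' : Cong (Matrix.J (Fin m) F) (evenTwo F m) := by simpa using h.reindex e.symm
    obtain ⟨P, c, hP⟩ := h'
    have h1 := congr_mulVec (Matrix.J (Fin m) F) (P : Matrix _ _ F) (Pi.single (Sum.inr 0) 1) (Pi.single (Sum.inr 0) 1)
    rw [hP, isAltM_J.self_eq_zero, mulVec_single_one, single_one_dotProduct] at h1
    simp [evenTwo, Matrix.J, vecMulVec_apply, c.ne_zero] at h1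
  · obtain ⟨A, rfl, hA, hAs, -⟩ := exists_reindex e S
    have hAsym := hAs (symSkew_of_two hS)
    by_cases hd : ∀ i, A i i = 0
    · exact Or.inl ((cong_alt ⟨by rw [hAsym]; ext i j; exact (CharTwo.neg_eq _).symm, hd⟩ (hA ▸ hS.1)).reindex e)
    · push Not at hd
      exact Or.inr ((cong_evenTwo hAsym (hA ▸ hS.1) hd).reindex e)
  · obtain ⟨e₁⟩ := nonempty_reindex_equiv e (Matrix.J (Fin m) F)
    obtain ⟨e₂⟩ := sp_equiv_projQuot (F := F) (m := m)
    exact ⟨e₁.symm.trans e₂⟩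
  · obtain ⟨e₁⟩ := nonempty_reindex_equiv e (evenTwo F m)
    exact ⟨e₁.symm.trans et⟩

end CfsgLib.GraphInv
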