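import Cfsg.Agent.GraphInv.PSU
import Cfsg.Agent.GraphInv.Count

/-!
Splitting of the classes of involutory graph automorphisms of `PSU_n` under the inner group.
-/

set_option autoImplicit false
set_option linter.unusedSectionVars false

open Matrix

namespace CfsgLib.GraphInv

open CfsgLib.AutPSU

variable {F : Type*} [Field F] [Finite F] {q n m : ℕ} {F₀ : Type*} [Field F₀] [Finite F₀]

/-- A square root of the multiplier whose power is the determinant. -/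
theorem exists_root {A : Matrix (Fin n) (Fin n) F₀} (hA : A.det ≠ 0) (h : Odd n ∨ CharP F₀ 2)
    {P : GL (Fin n) F₀} {c : F₀}
    (hP : (P : Matrix (Fin n) (Fin n) F₀)ᵀ * A * (P : Matrix (Fin n) (Fin n) F₀) = c • A) :
    ∃ r : F₀, r ^ 2 = c ∧ r ^ n = (P : Matrix (Fin n) (Fin n) F₀).det := by
  have h2 := det_sq hA hP
  rw [Fintype.card_fin] at h2
  rcases h with ⟨k, rfl⟩ | hch
  · have hd := Matrix.GeneralLinearGroup.det_ne_zero P
    have hck : c ^ k ≠ 0 := fun h0 => hd (sq_eq_zero_iff.mp (by rw [h2, pow_succ, mul_comm 2 k, pow_mul, h0]; simp))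
    have hr2 : ((P : Matrix (Fin (2 * k + 1)) (Fin (2 * k + 1)) F₀).det / c ^ k) ^ 2 = c := by
      rw [div_pow, h2, div_eq_iff (pow_ne_zero _ hck)]
      ring
    refine ⟨_, hr2, ?_⟩
    rw [pow_succ, pow_mul, hr2, mul_div_cancel₀ _ hck]
  · obtain ⟨r, hr⟩ := ((Finite.injective_iff_bijective).mp (CharTwo.sq_injective (R := F₀))).2 c
    have hr' : r ^ 2 = c := hr
    refine ⟨r, hr', CharTwo.sq_injective ?_⟩
    show (r ^ n) ^ 2 = _ ^ 2
    rw [h2, ← hr', ← pow_mul, ← pow_mul, mul_comm]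

variable (hF : Nat.card F = q ^ 2) {σ : RingAut F} (hσ : ∀ a : F, σ a = a ^ q)
  {j : F₀ →+* F} (hj : QuadExt σ j)
include hF hσ hj

theorem norm_eq (ν : Fˣ) : (ν : F) * σ (ν : F) = ((ν ^ (q + 1) : Fˣ) : F) := by
  rw [hσ, Units.val_pow_eq_pow_val, pow_succ']

theorem mem_normOne_iff' (z : Fˣ) : z ∈ normOne F q ↔ (z : F) * σ (z : F) = 1 := by
  rw [mem_normOne, norm_eq hF hσ hj]
  exact ⟨fun h => by rw [h, Units.val_one], fun h => Units.ext (by rw [h, Units.val_one])⟩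

theorem exists_normOne {z : F} (hz : z * σ z = 1) : ∃ w : ↥(normOne F q), ((w : Fˣ) : F) = z := by
  have hz0 : z ≠ 0 := fun h => by rw [h, zero_mul] at hz; exact zero_ne_one hz
  exact ⟨⟨Units.mk0 z hz0, (mem_normOne_iff' hF hσ hj _).mpr hz⟩, rfl⟩

/-- The determinants of the centraliser. -/
theorem mem_detU_uSim [NeZero n] {S : ↥(Cfsg.GU n F q)} {A : Matrix (Fin n) (Fin n) F₀} (hS : UDesc σ j S A)
    (u : ↥(normOne F q)) :
    u ∈ (uSim S).map (detU hF n) ↔ ∃ (P : GL (Fin n) F₀) (c : F₀ˣ) (ν : Fˣ),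
      (P : Matrix (Fin n) (Fin n) F₀)ᵀ * A * (P : Matrix (Fin n) (Fin n) F₀) = (c : F₀) • A ∧
      (ν : F) * σ (ν : F) * j (c : F₀) = 1 ∧
      ((u : Fˣ) : F) = (ν : F) ^ n * j (P : Matrix (Fin n) (Fin n) F₀).det := by
  obtain ⟨w, hw⟩ := hS
  obtain ⟨⟨c₁, h₁⟩, d₁, g₁⟩ := hw
  have hw' : Desc σ j (S : GL (Fin n) F) A w := ⟨⟨c₁, h₁⟩, d₁, g₁⟩
  have hdet : ∀ (ν : Fˣ) (P : GL (Fin n) F₀),
      ((Matrix.GeneralLinearGroup.scalar (Fin n) ν * (w * Matrix.GeneralLinearGroup.map j P * w⁻¹) : GL (Fin n) F) :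
          Matrix (Fin n) (Fin n) F).det = (ν : F) ^ n * j (P : Matrix (Fin n) (Fin n) F₀).det := fun ν P => by
    rw [Units.val_mul, det_mul, coe_scalar, det_smul, det_one, mul_one, Fintype.card_fin, det_conj_mul]
    congr 1
    exact (j.map_det _).symm
  have hgram : ∀ (ν : Fˣ) (P : GL (Fin n) F₀) (c : F₀ˣ),
      (P : Matrix (Fin n) (Fin n) F₀)ᵀ * A * (P : Matrix (Fin n) (Fin n) F₀) = (c : F₀) • A →
      (IsUnit' σ (Matrix.GeneralLinearGroup.scalar (Fin n) ν * (w * Matrix.GeneralLinearGroup.map j P * w⁻¹)) ↔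
        (ν : F) * σ (ν : F) * j (c : F₀) = 1) ∧
      (Matrix.GeneralLinearGroup.scalar (Fin n) ν * (w * Matrix.GeneralLinearGroup.map j P * w⁻¹) : GL (Fin n) F) ∈
        simGroup ((S : GL (Fin n) F) : Matrix (Fin n) (Fin n) F) := by
    intro ν P c hP
    obtain ⟨hk1, hk2⟩ := hj.desc_core h₁ h₁ g₁ g₁ hP c.ne_zero
    have hcj : (c₁ : F) * j (c : F₀) * ((c₁⁻¹ : Fˣ) : F) = j (c : F₀) := by
      rw [mul_comm (c₁ : F), Units.mul_inv_cancel_right]
    rw [hcj, Units.mul_inv, one_mul] at hk2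
    rw [hcj] at hk1
    refine ⟨?_, mul_mem (scalars_le _ (scalarGL_mem ν)) ⟨Units.map (j : F₀ →* F) c, hk1⟩⟩
    show _ᵀ * Matrix.map _ σ = 1 ↔ _
    rw [Units.val_mul, coe_scalar, smul_mul_assoc, one_mul, transpose_smul, map_smul', smul_mul_assoc, mul_smul_comm,
      hk2, smul_smul, smul_smul]
    refine ⟨fun h => ?_, fun h => by rw [h, one_smul]⟩
    have h0 := congrFun (congrFun h 0) 0
    simpa using h0
  constructor
  · rintro ⟨g, hg, rfl⟩
    obtain ⟨c', hc'⟩ := Subgroup.mem_subgroupOf.mp hg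
    obtain ⟨P, c, μ, hP, hk⟩ := hj.desc_to hw' hw' (e := 1)
      (by rw [Units.val_one, one_smul]; exact (mem_GU_iff_unit hF hσ).mp g.2) hc'
    refine ⟨P, c, μ, hP, ((hgram μ P c hP).1.mp (hk ▸ (mem_GU_iff_unit hF hσ).mp g.2)), ?_⟩
    rw [← hdet, ← hk]
    rfl
  · rintro ⟨P, c, ν, hP, hν, hu⟩
    obtain ⟨h1, h2⟩ := hgram ν P c hP
    refine ⟨⟨_, (mem_GU_iff_unit hF hσ).mpr (h1.mpr hν)⟩, Subgroup.mem_subgroupOf.mpr h2, Subtype.ext (Units.ext ?_)⟩
    rw [coe_detU, hu, ← hdet]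
    rfl

theorem splitClassCount_uGraph (hn : 3 ≤ n) (S : ↥(Cfsg.GU n F q)) :
    Cfsg.splitClassCount (Cfsg.inndiagPSU n F q) (Cfsg.Inn (Cfsg.PSU n F q)) (uGraph σ S) =
      Nat.gcd n ((uSim S).map (detU hF n)).index := by
  rw [CfsgLib.AutPSL.splitClassCount_eq _ _ inn_le_inndiag, centralizerU_eq hF hσ hn,
    relIndex_inn_sup hF hn _ _ rfl]

theorem exists_pair (z : ↥(normOne F q)) :
    ∃ (μ : Fˣ) (c : F₀ˣ), (μ : F) * σ (μ : F) * j (c : F₀) = 1 ∧
      ((z : Fˣ) : F) = (μ : F) ^ 2 * j (c : F₀) := by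
  obtain ⟨μ, hμ⟩ := hj.hilbert90 (z : Fˣ) ((mem_normOne_iff' hF hσ hj _).mp z.2)
  have hN : σ ((μ : F) * σ (μ : F)) = (μ : F) * σ (μ : F) := by rw [map_mul σ, hj.invol, mul_comm]
  obtain ⟨c, hc⟩ := (hj.fixed _).mp hN
  have hσ0 : σ (μ : F) ≠ 0 := (map_ne_zero σ).mpr μ.ne_zero
  have hc0 : c ≠ 0 := fun h => mul_ne_zero μ.ne_zero hσ0 (by rw [← hc, h, map_zero])
  refine ⟨μ, (Units.mk0 c hc0)⁻¹, ?_, ?_⟩
  · rw [Units.val_inv_eq_inv_val, map_inv₀, Units.val_mk0, hc, mul_inv_cancel₀ (mul_ne_zero μ.ne_zero hσ0)]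
  · rw [Units.val_inv_eq_inv_val, map_inv₀, Units.val_mk0, hc]
    field_simp
    linear_combination hμ

theorem countU_other (hn : 3 ≤ n) {S : ↥(Cfsg.GU n F q)} {A : Matrix (Fin n) (Fin n) F₀} (hS : UDesc σ j S A)
    (hA : A.det ≠ 0) (h : Odd n ∨ CharP F₀ 2) :
    Cfsg.splitClassCount (Cfsg.inndiagPSU n F q) (Cfsg.Inn (Cfsg.PSU n F q)) (uGraph σ S) = Nat.gcd n (q + 1) := by
  have : NeZero n := ⟨by omega⟩
  have hU : (uSim S).map (detU hF n) = (powMonoidHom n : ↥(normOne F q) →* ↥(normOne F q)).range := by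
    ext u
    rw [mem_detU_uSim hF hσ hj hS]
    constructor
    · rintro ⟨P, c, ν, hP, hν, hu⟩
      obtain ⟨r, hr, hrn⟩ := exists_root hA h hP
      obtain ⟨z, hz⟩ := exists_normOne hF hσ hj (z := (ν : F) * j r) (by
        rw [map_mul σ, hj.fix_j]
        rw [← hr, map_pow] at hν
        linear_combination hν)
      refine ⟨z, Subtype.ext (Units.ext ?_)⟩
      rw [powMonoidHom_apply, SubmonoidClass.coe_pow, Units.val_pow_eq_pow_val, hz, mul_pow, hu, ← hrn, map_pow]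
    · rintro ⟨z, rfl⟩
      refine ⟨1, 1, (z : Fˣ), by simp, ?_, ?_⟩
      · rw [Units.val_one, map_one, mul_one]
        exact (mem_normOne_iff' hF hσ hj _).mp z.2
      · simp
  have : IsCyclic ↥(normOne F q) := Subgroup.isCyclic _
  rw [splitClassCount_uGraph hF hσ hj hn, hU, IsCyclic.index_powMonoidHom_range, card_normOne hF,
    Nat.gcd_comm (q + 1) n, ← Nat.gcd_assoc, Nat.gcd_self]

theorem countU_skew (h2 : (2 : F₀) ≠ 0) (hnm : n = 2 * m) (hn : 3 ≤ n) {S : ↥(Cfsg.GU n F q)}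
    {A : Matrix (Fin n) (Fin n) F₀} (hS : UDesc σ j S A) (hA : A.det ≠ 0) (hA' : Aᵀ = -A) :
    Cfsg.splitClassCount (Cfsg.inndiagPSU n F q) (Cfsg.Inn (Cfsg.PSU n F q)) (uGraph σ S) = Nat.gcd m (q + 1) := by
  have : NeZero n := ⟨by omega⟩
  obtain ⟨-, hmult, hdet⟩ := skew_data h2 hnm hA hA'
  have hU : (uSim S).map (detU hF n) = (powMonoidHom m : ↥(normOne F q) →* ↥(normOne F q)).range := by
    ext u
    rw [mem_detU_uSim hF hσ hj hS]
    constructor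
    · rintro ⟨P, c, ν, hP, hν, hu⟩
      obtain ⟨z, hz⟩ := exists_normOne hF hσ hj (z := (ν : F) ^ 2 * j (c : F₀)) (by
        rw [map_mul σ, map_pow, hj.fix_j]
        linear_combination ((ν : F) * σ (ν : F) * j (c : F₀) + 1) * hν)
      refine ⟨z, Subtype.ext (Units.ext ?_)⟩
      rw [powMonoidHom_apply, SubmonoidClass.coe_pow, Units.val_pow_eq_pow_val, hz, mul_pow, hu, hdet P c hP, map_pow,
        hnm, pow_mul]
    · rintro ⟨z, rfl⟩
      obtain ⟨μ, c, hμ, hz⟩ := exists_pair hF hσ hj z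
      obtain ⟨P, hP, hP'⟩ := hmult c
      refine ⟨P, c, μ, hP, hμ, ?_⟩
      rw [hP', one_mul, map_pow, hnm, pow_mul, ← mul_pow, ← hz]
      simp
  have : IsCyclic ↥(normOne F q) := Subgroup.isCyclic _
  rw [splitClassCount_uGraph hF hσ hj hn, hU, IsCyclic.index_powMonoidHom_range, card_normOne hF, hnm, gcd_double]

theorem countU_sym (h2 : (2 : F₀) ≠ 0) (hodd : Odd q) (hnm : n = 2 * m) (hn : 3 ≤ n) {S : ↥(Cfsg.GU n F q)}
    {A : Matrix (Fin n) (Fin n) F₀} (hS : UDesc σ j S A) (hA : A.det ≠ 0) (hA' : Aᵀ = A) :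
    Cfsg.splitClassCount (Cfsg.inndiagPSU n F q) (Cfsg.Inn (Cfsg.PSU n F q)) (uGraph σ S) =
      Nat.gcd n (q + 1) / 2 := by
  have : NeZero n := ⟨by omega⟩
  have h2F : (2 : F) ≠ 0 := by
    have := (map_ne_zero j).mpr h2
    rwa [map_ofNat] at this
  have : IsCyclic ↥(normOne F q) := Subgroup.isCyclic _
  obtain ⟨k, hk⟩ : ∃ k, q + 1 = 2 * k := by
    obtain ⟨i, rfl⟩ := hodd
    exact ⟨i + 1, by ring⟩
  have hdich : ∀ z : ↥(normOne F q), ((((z ^ k : ↥(normOne F q)) : Fˣ) : F) = 1) ∨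
      ((((z ^ k : ↥(normOne F q)) : Fˣ) : F) = -1) := fun z => by
    have h1 : z ^ (q + 1) = 1 := by rw [← card_normOne hF]; exact pow_card_eq_one'
    rw [hk, mul_comm, pow_mul] at h1
    have h3 := congrArg (fun u : ↥(normOne F q) => ((u : Fˣ) : F)) h1
    simp only [SubmonoidClass.coe_pow, Units.val_pow_eq_pow_val, OneMemClass.coe_one, Units.val_one] at h3 ⊢
    exact sq_eq_one_iff.mp h3
  have hneg : ∃ z : ↥(normOne F q), (((z ^ k : ↥(normOne F q)) : Fˣ) : F) = -1 := by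
    obtain ⟨g, hg⟩ := IsCyclic.exists_generator (α := ↥(normOne F q))
    refine ⟨g, (hdich g).resolve_left fun h1 => ?_⟩
    have h3 : g ^ k = 1 := Subtype.ext (Units.ext (by simpa using h1))
    have h4 := orderOf_dvd_of_pow_eq_one h3
    rw [orderOf_eq_card_of_forall_mem_zpowers hg, card_normOne hF, hk] at h4
    have := Nat.le_of_dvd (by omega) h4
    omega
  have hU : (uSim S).map (detU hF n) = (powMonoidHom k : ↥(normOne F q) →* ↥(normOne F q)).range ⊔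
      (powMonoidHom m : ↥(normOne F q) →* ↥(normOne F q)).range := by
    ext u
    rw [mem_detU_uSim hF hσ hj hS]
    constructor
    · rintro ⟨P, c, ν, hP, hν, hu⟩
      obtain ⟨z, hz⟩ := exists_normOne hF hσ hj (z := (ν : F) ^ 2 * j (c : F₀)) (by
        rw [map_mul σ, map_pow, hj.fix_j]
        linear_combination ((ν : F) * σ (ν : F) * j (c : F₀) + 1) * hν)
      have h1 := det_sq hA hP
      rw [Fintype.card_fin, show (c : F₀) ^ n = ((c : F₀) ^ m) ^ 2 by rw [hnm, mul_comm, pow_mul]] at h1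
      have hun : ((u : Fˣ) : F) = ((ν : F) ^ 2) ^ m * j (P : Matrix (Fin n) (Fin n) F₀).det := by
        rw [hu, ← pow_mul, ← hnm]
      rcases sq_eq_sq_iff_eq_or_eq_neg.mp h1 with h | h
      · refine Subgroup.mem_sup_right ⟨z, Subtype.ext (Units.ext ?_)⟩
        rw [hun, h, map_pow, powMonoidHom_apply, SubmonoidClass.coe_pow, Units.val_pow_eq_pow_val, hz, mul_pow]
      · obtain ⟨v, hv⟩ := hneg
        refine Subgroup.mem_sup.mpr ⟨_, ⟨v, rfl⟩, _, ⟨z, rfl⟩, Subtype.ext (Units.ext ?_)⟩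
        rw [hun, h, map_neg, map_pow, mul_neg, ← mul_pow, Subgroup.coe_mul, Units.val_mul, powMonoidHom_apply,
          powMonoidHom_apply, hv, SubmonoidClass.coe_pow, Units.val_pow_eq_pow_val, hz]
        ring
    · intro hu
      obtain ⟨_, ⟨v, rfl⟩, _, ⟨z, rfl⟩, rfl⟩ := Subgroup.mem_sup.mp hu
      obtain ⟨μ, c, hμ, hz⟩ := exists_pair hF hσ hj z
      obtain ⟨δ, hδ, hv⟩ : ∃ δ : F₀, (δ = 1 ∨ δ = -1) ∧ (((v ^ k : ↥(normOne F q)) : Fˣ) : F) = j δ := by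
        rcases hdich v with h | h
        · exact ⟨1, Or.inl rfl, by rw [h, map_one]⟩
        · exact ⟨-1, Or.inr rfl, by rw [h, map_neg, map_one]⟩
      obtain ⟨P, hP, hP'⟩ := sym_mult h2 hnm (by omega) hA hA' hδ c
      refine ⟨P, c, μ, hP, hμ, ?_⟩
      simp only [powMonoidHom_apply, Subgroup.coe_mul, Units.val_mul, hv]
      rw [hP', map_mul, map_pow, SubmonoidClass.coe_pow, Units.val_pow_eq_pow_val, hz,
        show (μ : F) ^ n = ((μ : F) ^ 2) ^ m by rw [← pow_mul, ← hnm]]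
      ring
  rw [splitClassCount_uGraph hF hσ hj hn, hU, CfsgLib.AutPSL.index_sup_pow, IsCyclic.index_powMonoidHom_range,
    card_normOne hF, hk, Nat.gcd_eq_right (dvd_mul_left k 2), hnm, Nat.gcd_mul_left,
    Nat.mul_div_cancel_left _ (by norm_num), Nat.gcd_comm m k, gcd_double, Nat.gcd_comm]

end CfsgLib.GraphInv
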