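import Cfsg.Agent.GraphInv.PSL

/-!
Descent of symmetric and skew unitary matrices to the fixed field of the involution.
-/

set_option autoImplicit false
set_option linter.unusedSectionVars false

open Matrix CfsgLib.AutPSL

namespace CfsgLib.GraphInv

variable {F : Type*} [Field F] [Finite F] {n : ℕ} {F₀ : Type*} [Field F₀]

/-- The quadratic extension `F / F₀` with its involution. -/
structure QuadExt (σ : RingAut F) (j : F₀ →+* F) : Prop where
  sq : σ ^ 2 = 1
  ne_one : σ ≠ 1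
  fixed : ∀ x, σ x = x ↔ x ∈ j.range

variable {σ : RingAut F} {j : F₀ →+* F}

theorem QuadExt.invol (hj : QuadExt σ j) (x : F) : σ (σ x) = x := by
  have := hj.sq
  rw [pow_two] at this
  exact RingEquiv.congr_fun this x

theorem QuadExt.fix_j (hj : QuadExt σ j) (x : F₀) : σ (j x) = j x := (hj.fixed _).mpr ⟨x, rfl⟩

theorem QuadExt.orderOf (hj : QuadExt σ j) : _root_.orderOf σ = 2 := orderOf_eq_prime hj.sq hj.ne_one

theorem QuadExt.inj (hj : QuadExt σ j) : Function.Injective fun i : Fin 2 => σ ^ (i : ℕ) :=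
  injective_pow_of_orderOf hj.orderOf

theorem QuadExt.exists_norm (hj : QuadExt σ j) {a : F} (ha : σ a = a) (ha0 : a ≠ 0) :
    ∃ ν : Fˣ, (ν : F) * σ (ν : F) = a := by
  obtain ⟨u, hu⟩ := exists_autNorm_eq σ hj.sq hj.inj (by norm_num) (Units.mk0 a ha0) (Units.ext ha)
  refine ⟨u, ?_⟩
  have h : u * Units.map (σ : F →* F) (u * Units.map (σ : F →* F) (1 : Fˣ)) = Units.mk0 a ha0 := hu
  rw [map_one, mul_one] at h
  exact congrArg Units.val h

theorem QuadExt.hilbert90 (hj : QuadExt σ j) (r : Fˣ) (hr : (r : F) * σ (r : F) = 1) :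
    ∃ μ : Fˣ, (r : F) * σ (μ : F) = μ := by
  obtain ⟨w, hw⟩ := exists_div_eq_of_autNorm σ hj.sq hj.inj (by norm_num) r (by
    show r * Units.map (σ : F →* F) (r * Units.map (σ : F →* F) (1 : Fˣ)) = 1
    rw [map_one, mul_one]
    exact Units.ext hr)
  exact ⟨w, congrArg Units.val hw⟩

/-- A scalar `ω` with `σ ω = ε ω`. -/
theorem QuadExt.exists_sign (hj : QuadExt σ j) {ε : F} (hε : ε = 1 ∨ ε = -1) :
    ∃ ω : Fˣ, σ (ω : F) = ε * (ω : F) := by
  rcases hε with rfl | rfl
  · exact ⟨1, by simp⟩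
  · obtain ⟨z, hz⟩ : ∃ z, σ z ≠ z := by
      by_contra h
      push Not at h
      exact hj.ne_one (RingEquiv.ext h)
    refine ⟨Units.mk0 (z - σ z) (sub_ne_zero.mpr (Ne.symm hz)), ?_⟩
    rw [Units.val_mk0, map_sub, hj.invol]
    ring

/-- A matrix over `F₀` seen over `F`. -/
def upMat (j : F₀ →+* F) (A : Matrix (Fin n) (Fin n) F₀) : Matrix (Fin n) (Fin n) F := A.map j

theorem upMat_mul (A B : Matrix (Fin n) (Fin n) F₀) : upMat j (A * B) = upMat j A * upMat j B := Matrix.map_mul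

theorem upMat_transpose (A : Matrix (Fin n) (Fin n) F₀) : upMat j Aᵀ = (upMat j A)ᵀ := rfl

theorem upMat_smul (c : F₀) (A : Matrix (Fin n) (Fin n) F₀) : upMat j (c • A) = j c • upMat j A := by
  ext a b; simp [upMat]

theorem upMat_injective : Function.Injective (upMat (n := n) j) := fun A B h => by
  ext a b; exact j.injective (congrFun (congrFun h a) b)

theorem det_upMat (A : Matrix (Fin n) (Fin n) F₀) : (upMat j A).det = j A.det := (j.map_det A).symm

theorem QuadExt.upMat_fixed (hj : QuadExt σ j) (A : Matrix (Fin n) (Fin n) F₀) : (upMat j A).map σ = upMat j A := by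
  ext a b; exact hj.fix_j _

theorem QuadExt.exists_down (hj : QuadExt σ j) {M : Matrix (Fin n) (Fin n) F} (hM : M.map σ = M) :
    ∃ A : Matrix (Fin n) (Fin n) F₀, upMat j A = M := by
  have h : ∀ a b, M a b ∈ j.range := fun a b => (hj.fixed _).mp (congrFun (congrFun hM a) b)
  choose A hA using h
  exact ⟨Matrix.of A, by ext a b; exact hA a b⟩

theorem map_smul' (c : F) (M : Matrix (Fin n) (Fin n) F) : (c • M).map σ = σ c • M.map σ := by
  ext a b; simp

theorem map_mul' (M N : Matrix (Fin n) (Fin n) F) : (M * N).map σ = M.map σ * N.map σ := Matrix.map_mul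

/-- `w` transports the matrix `A` over `F₀` to the unitary matrix `S`. -/
def Desc (σ : RingAut F) (j : F₀ →+* F) (S : GL (Fin n) F) (A : Matrix (Fin n) (Fin n) F₀) (w : GL (Fin n) F) :
    Prop :=
  (∃ c : Fˣ, (w : Matrix (Fin n) (Fin n) F)ᵀ * (S : Matrix (Fin n) (Fin n) F) * (w : Matrix (Fin n) (Fin n) F) =
      (c : F) • upMat j A) ∧
    ∃ d : Fˣ, (w : Matrix (Fin n) (Fin n) F).map σ =
      (d : F) • ((S : Matrix (Fin n) (Fin n) F) * (w : Matrix (Fin n) (Fin n) F))

/-- Unitary. -/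
def IsUnit' (σ : RingAut F) (g : GL (Fin n) F) : Prop :=
  (g : Matrix (Fin n) (Fin n) F)ᵀ * (g : Matrix (Fin n) (Fin n) F).map σ = 1

theorem Desc.det_ne_zero {S : GL (Fin n) F} {A : Matrix (Fin n) (Fin n) F₀} {w : GL (Fin n) F}
    (h : Desc σ j S A w) : A.det ≠ 0 := by
  obtain ⟨⟨c, hc⟩, -⟩ := h
  intro h0
  have := congrArg Matrix.det hc
  rw [det_mul, det_mul, det_smul, det_upMat, h0, map_zero, mul_zero, det_transpose] at this
  exact mul_ne_zero (mul_ne_zero (Matrix.GeneralLinearGroup.det_ne_zero w) (Matrix.GeneralLinearGroup.det_ne_zero S))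
    (Matrix.GeneralLinearGroup.det_ne_zero w) this

theorem Desc.transpose_eq {S : GL (Fin n) F} {A : Matrix (Fin n) (Fin n) F₀} {w : GL (Fin n) F}
    (h : Desc σ j S A w) :
    ((S : Matrix (Fin n) (Fin n) F)ᵀ = (S : Matrix (Fin n) (Fin n) F) → Aᵀ = A) ∧
      ((S : Matrix (Fin n) (Fin n) F)ᵀ = -(S : Matrix (Fin n) (Fin n) F) → Aᵀ = -A) := by
  obtain ⟨⟨c, hc⟩, -⟩ := h
  have ht := congrArg Matrix.transpose hc
  rw [transpose_mul, transpose_mul, transpose_transpose, transpose_smul, ← mul_assoc] at ht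
  refine ⟨fun hS => upMat_injective (j := j) ?_, fun hS => upMat_injective (j := j) ?_⟩
  · rw [hS, hc] at ht
    rw [upMat_transpose]
    exact (smul_right_injective _ c.ne_zero ht).symm
  · rw [hS, Matrix.mul_neg, Matrix.neg_mul, hc, ← smul_neg] at ht
    rw [upMat_transpose, ← smul_right_injective _ c.ne_zero ht]
    ext a b
    simp [upMat]

theorem Desc.symSkew {S : GL (Fin n) F} {A : Matrix (Fin n) (Fin n) F₀} {w : GL (Fin n) F}
    (h : Desc σ j S A w) (hS : SymSkew (S : Matrix (Fin n) (Fin n) F)) : SymSkew A :=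
  ⟨h.det_ne_zero, hS.2.imp h.transpose_eq.1 h.transpose_eq.2⟩

theorem QuadExt.exists_desc (hj : QuadExt σ j) [NeZero n] {S : GL (Fin n) F} (hS : SymSkew (S : Matrix (Fin n) (Fin n) F))
    (hU : IsUnit' σ S) : ∃ (A : Matrix (Fin n) (Fin n) F₀) (w : GL (Fin n) F), Desc σ j S A w := by
  set Sm := (S : Matrix (Fin n) (Fin n) F) with hSm
  obtain ⟨ε, hε, hT⟩ : ∃ ε : F, (ε = 1 ∨ ε = -1) ∧ Smᵀ = ε • Sm := by
    rcases hS.2 with h | h
    · exact ⟨1, Or.inl rfl, by rw [one_smul, h]⟩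
    · exact ⟨-1, Or.inr rfl, by rw [neg_smul, one_smul, h]⟩
  have hεσ : σ ε = ε := by rcases hε with rfl | rfl <;> simp
  have hεε : ε * ε = 1 := by rcases hε with rfl | rfl <;> simp
  have hε0 : ε ≠ 0 := by rcases hε with rfl | rfl <;> simp
  obtain ⟨lam, hlam⟩ := hj.exists_norm hεσ hε0
  have hSS : Sm * Sm.map σ = ε • 1 := by
    have h1 : Smᵀ * Sm.map σ = 1 := hU
    rw [hT, smul_mul_assoc] at h1
    rw [← h1, smul_smul, hεε, one_smul]
  -- the twisted element of norm one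
  have hinv : ((S⁻¹ : GL (Fin n) F) : Matrix (Fin n) (Fin n) F) = ε • Sm.map σ := by
    have : Sm * (ε • Sm.map σ) = 1 := by rw [mul_smul_comm, hSS, smul_smul, hεε, one_smul]
    calc ((S⁻¹ : GL (Fin n) F) : Matrix (Fin n) (Fin n) F)
        = ((S⁻¹ : GL (Fin n) F) : Matrix (Fin n) (Fin n) F) * (Sm * (ε • Sm.map σ)) := by rw [this, mul_one]
      _ = _ := by rw [← mul_assoc, hSm, ← Units.val_mul, inv_mul_cancel, Units.val_one, one_mul]
  set g' : GL (Fin n) F := Matrix.GeneralLinearGroup.scalar (Fin n) lam * S⁻¹ with hg'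
  have hg'v : (g' : Matrix (Fin n) (Fin n) F) = ((lam : F) * ε) • Sm.map σ := by
    rw [hg', Units.val_mul, coe_scalar, smul_mul_assoc, one_mul, hinv, smul_smul]
  have htw : twistProd σ g' 2 = 1 := by
    apply Units.ext
    rw [twistProd_succ, twistProd_succ, twistProd_zero, map_one, mul_one, Units.val_mul, CfsgLib.AutPSL.coe_glMap,
      hg'v, map_smul', map_mul σ, hεσ, smul_mul_assoc, mul_smul_comm, smul_smul, Matrix.map_map,
      show (σ : F → F) ∘ (σ : F → F) = id from funext hj.invol, Matrix.map_id, Units.val_one]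
    have hSS' : Sm.map σ * Sm = ε • 1 := by
      have := congrArg (fun M => M.map σ) hSS
      simp only [map_mul', map_smul', hεσ, Matrix.map_map] at this
      rw [show (σ : F → F) ∘ (σ : F → F) = id from funext hj.invol, Matrix.map_id, Matrix.map_one σ (map_zero σ)
        (map_one σ)] at this
      exact this
    rw [hSS', smul_smul, show (lam : F) * ε * (σ (lam : F) * ε) * ε = 1 by
      linear_combination ε * ε * ε * hlam + (ε * ε + 1) * hεε, one_smul]
  obtain ⟨w, hw⟩ := exists_glMap_eq σ hj.sq hj.inj g' htw (by norm_num)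
  set wm := (w : Matrix (Fin n) (Fin n) F) with hwm
  have hws : wm.map σ = ((lam⁻¹ : Fˣ) : F) • (Sm * wm) := by
    have h1 := congrArg (fun g : GL (Fin n) F => Sm * (g : Matrix (Fin n) (Fin n) F)) hw
    simp only [hg', Units.val_mul, coe_scalar, smul_mul_assoc, one_mul, mul_smul_comm, CfsgLib.AutPSL.coe_glMap] at h1
    rw [← mul_assoc, hSm, ← Units.val_mul, mul_inv_cancel, Units.val_one, one_mul] at h1
    rw [hwm, hSm, ← h1, smul_smul, ← Units.val_mul, inv_mul_cancel, Units.val_one, one_smul]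
  -- the Hermitian matrix
  set H : Matrix (Fin n) (Fin n) F := wmᵀ * wm.map σ with hH
  have hHT : Hᵀ = ε • H := by
    rw [hH, transpose_mul, transpose_transpose, hws, transpose_smul, transpose_mul, hT]
    simp only [smul_mul_assoc, mul_smul_comm, mul_assoc]
    rw [smul_comm]
  have hHσ : H.map σ = Hᵀ := by
    rw [hH, map_mul', Matrix.transpose_map, Matrix.map_map,
      show (σ : F → F) ∘ (σ : F → F) = id from funext hj.invol, Matrix.map_id, transpose_mul, transpose_transpose]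
  obtain ⟨ω, hω⟩ := hj.exists_sign hε
  obtain ⟨A, hA⟩ := hj.exists_down (M := (ω : F) • H) (by
    rw [map_smul', hHσ, hHT, hω, smul_smul, mul_comm ε, mul_assoc, hεε, mul_one])
  refine ⟨A, w, ⟨lam * ω⁻¹, ?_⟩, lam⁻¹, hws⟩
  rw [hA, smul_smul, ← Units.val_mul, inv_mul_cancel_right, hH, hws, mul_smul_comm, smul_smul, ← Units.val_mul,
    mul_inv_cancel, Units.val_one, one_smul, mul_assoc]

/-- Every symmetric or skew matrix over `F₀` comes from a unitary one. -/
theorem QuadExt.exists_up (hj : QuadExt σ j) {A : Matrix (Fin n) (Fin n) F₀} (hA : SymSkew A) :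
    ∃ (S w : GL (Fin n) F), SymSkew (S : Matrix (Fin n) (Fin n) F) ∧ IsUnit' σ S ∧ Desc σ j S A w := by
  obtain ⟨ε, hε, hT⟩ : ∃ ε : F, (ε = 1 ∨ ε = -1) ∧ (upMat j A)ᵀ = ε • upMat j A := by
    rcases hA.2 with h | h
    · exact ⟨1, Or.inl rfl, by rw [one_smul, ← upMat_transpose, h]⟩
    · exact ⟨-1, Or.inr rfl, by
        rw [← upMat_transpose, h, neg_smul, one_smul]; ext a b; simp [upMat]⟩
  have hεσ : σ ε = ε := by rcases hε with rfl | rfl <;> simp
  have hεε : ε * ε = 1 := by rcases hε with rfl | rfl <;> simp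
  have hε0 : ε ≠ 0 := by rcases hε with rfl | rfl <;> simp
  obtain ⟨lam, hlam⟩ := hj.exists_norm hεσ hε0
  obtain ⟨ω, hω⟩ := hj.exists_sign hε
  have hdet : ((ω : F) • upMat j A).det ≠ 0 := by
    rw [det_smul, det_upMat]
    exact mul_ne_zero (pow_ne_zero _ ω.ne_zero) ((map_ne_zero j).mpr hA.1)
  set Hg : GL (Fin n) F := Matrix.GeneralLinearGroup.mkOfDetNeZero _ hdet with hHg
  have hHv : (Hg : Matrix (Fin n) (Fin n) F) = (ω : F) • upMat j A := rfl
  have hherm : Hg * starHom σ Hg = 1 := by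
    have h2 : glMap σ Hg⁻¹ = (glMap σ Hg)⁻¹ := map_inv _ _
    refine Units.ext ?_
    rw [Units.val_mul, starHom_apply, Units.val_one]
    show (Hg : Matrix (Fin n) (Fin n) F) * ((Hg⁻¹ : GL (Fin n) F) : Matrix (Fin n) (Fin n) F)ᵀ.map σ = 1
    have h1 : (Hg : Matrix (Fin n) (Fin n) F).map σ = (Hg : Matrix (Fin n) (Fin n) F)ᵀ := by
      rw [hHv, map_smul', hj.upMat_fixed, transpose_smul, hT, hω, smul_smul, mul_comm ε]
    calc (Hg : Matrix (Fin n) (Fin n) F) * ((Hg⁻¹ : GL (Fin n) F) : Matrix (Fin n) (Fin n) F)ᵀ.map σ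
        = (((Hg⁻¹ : GL (Fin n) F) : Matrix (Fin n) (Fin n) F) * (Hg : Matrix (Fin n) (Fin n) F))ᵀ.map σ := by
          rw [transpose_mul, map_mul', ← h1, Matrix.map_map,
            show (σ : F → F) ∘ (σ : F → F) = id from funext hj.invol, Matrix.map_id]
      _ = 1 := by
          rw [← Units.val_mul, inv_mul_cancel, Units.val_one, transpose_one, Matrix.map_one σ (map_zero σ) (map_one σ)]
  obtain ⟨k, hk⟩ := exists_hermitian_eq σ hj.ne_one hj.sq Hg hherm
  set km := (k : Matrix (Fin n) (Fin n) F) with hkm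
  have hv : km * (km.map σ)ᵀ = (ω : F) • upMat j A := by
    rw [← hHv, ← hk, starHom_apply, ← map_inv]
    rfl
  -- `v = kᵀ`
  have hvdet : kmᵀ.det ≠ 0 := by rw [det_transpose]; exact Matrix.GeneralLinearGroup.det_ne_zero k
  set v : GL (Fin n) F := Matrix.GeneralLinearGroup.mkOfDetNeZero kmᵀ hvdet with hvdef
  set S : GL (Fin n) F := Matrix.GeneralLinearGroup.scalar (Fin n) lam * glMap σ v * v⁻¹ with hSdef
  have hSv : (S : Matrix (Fin n) (Fin n) F) * kmᵀ = (lam : F) • kmᵀ.map σ := by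
    calc (S : Matrix (Fin n) (Fin n) F) * kmᵀ = ((S * v : GL (Fin n) F) : Matrix (Fin n) (Fin n) F) := rfl
      _ = _ := by
        rw [hSdef, inv_mul_cancel_right, Units.val_mul, coe_scalar, smul_mul_assoc, one_mul]
        rfl
  have hvSv : km * (S : Matrix (Fin n) (Fin n) F) * kmᵀ = ((lam * ω : Fˣ) : F) • upMat j A := by
    rw [mul_assoc, hSv, mul_smul_comm, show kmᵀ.map σ = (km.map σ)ᵀ from rfl, hv, smul_smul, Units.val_mul]
  have cancelL : ∀ X Y : Matrix (Fin n) (Fin n) F, km * X = km * Y → X = Y := fun X Y h => by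
    have := congrArg (fun M => ((k⁻¹ : GL (Fin n) F) : Matrix (Fin n) (Fin n) F) * M) h
    simpa [← mul_assoc, hkm, ← Units.val_mul] using this
  have cancelR : ∀ X Y : Matrix (Fin n) (Fin n) F, X * kmᵀ = Y * kmᵀ → X = Y := fun X Y h => by
    have := congrArg (fun M => M * ((v⁻¹ : GL (Fin n) F) : Matrix (Fin n) (Fin n) F)) h
    simp only [mul_assoc, show kmᵀ = (v : Matrix (Fin n) (Fin n) F) from rfl, ← Units.val_mul, mul_inv_cancel,
      Units.val_one, mul_one] at this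
    exact this
  have hST : (S : Matrix (Fin n) (Fin n) F)ᵀ = ε • (S : Matrix (Fin n) (Fin n) F) := by
    refine cancelR _ _ (cancelL _ _ ?_)
    have h1 := congrArg Matrix.transpose hvSv
    rw [transpose_mul, transpose_mul, transpose_transpose, transpose_smul, hT] at h1
    rw [h1, smul_mul_assoc, mul_smul_comm, ← mul_assoc, hvSv, smul_comm]
  have hSU : IsUnit' σ S := by
    show (S : Matrix (Fin n) (Fin n) F)ᵀ * (S : Matrix (Fin n) (Fin n) F).map σ = 1
    have hσS : (S : Matrix (Fin n) (Fin n) F).map σ * kmᵀ.map σ = σ (lam : F) • kmᵀ := by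
      rw [← map_mul', hSv, map_smul', Matrix.map_map, show (σ : F → F) ∘ (σ : F → F) = id from funext hj.invol,
        Matrix.map_id]
    have hkσ : kmᵀ.map σ = ((lam⁻¹ : Fˣ) : F) • ((S : Matrix (Fin n) (Fin n) F) * kmᵀ) := by
      rw [hSv, smul_smul, ← Units.val_mul, inv_mul_cancel, Units.val_one, one_smul]
    have hmid : (S : Matrix (Fin n) (Fin n) F).map σ * (S : Matrix (Fin n) (Fin n) F) = ε • 1 := by
      refine cancelR _ _ ?_
      rw [hkσ, mul_smul_comm, ← mul_assoc] at hσS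
      have h2 := congrArg (fun M => (lam : F) • M) hσS
      simp only [smul_smul, ← Units.val_mul, mul_inv_cancel, Units.val_one, one_smul, hlam] at h2
      rw [h2, smul_mul_assoc, one_mul]
    have hinv : (S : Matrix (Fin n) (Fin n) F) * (S : Matrix (Fin n) (Fin n) F).map σ = ε • 1 := by
      have h3 := congrArg (fun M => (S : Matrix (Fin n) (Fin n) F) * M *
        ((S⁻¹ : GL (Fin n) F) : Matrix (Fin n) (Fin n) F)) hmid
      simp only [mul_assoc, ← Units.val_mul, mul_inv_cancel, Units.val_one, mul_one, mul_smul_comm, smul_mul_assoc] at h3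
      exact h3
    rw [hST, smul_mul_assoc, hinv, smul_smul, hεε, one_smul]
  refine ⟨S, v, ⟨Matrix.GeneralLinearGroup.det_ne_zero S, ?_⟩, hSU, ⟨lam * ω, ?_⟩, lam⁻¹, ?_⟩
  · rcases hε with rfl | rfl
    · exact Or.inl (by rw [hST, one_smul])
    · exact Or.inr (by rw [hST, neg_smul, one_smul])
  · exact hvSv
  · show kmᵀ.map σ = _ • ((S : Matrix (Fin n) (Fin n) F) * kmᵀ)
    rw [hSv, smul_smul, ← Units.val_mul, inv_mul_cancel, Units.val_one, one_smul]

variable {S T w v : GL (Fin n) F} {A B : Matrix (Fin n) (Fin n) F₀}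

theorem QuadExt.fixed_of_gram (hj : QuadExt σ j) [NeZero n] {k : Matrix (Fin n) (Fin n) F} {e : F}
    (h : kᵀ * k.map σ = e • 1) : σ e = e := by
  have h1 := congrArg (fun M => M.map σ) h
  simp only [map_mul', map_smul', Matrix.map_map, show (σ : F → F) ∘ (σ : F → F) = id from funext hj.invol,
    Matrix.map_id, Matrix.map_one σ (map_zero σ) (map_one σ)] at h1
  have h2 := congrArg Matrix.transpose h
  rw [transpose_mul, transpose_transpose, transpose_smul, transpose_one, show (k.map σ)ᵀ = kᵀ.map σ from rfl, h1] at h2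
  have := congrFun (congrFun h2 0) 0
  simpa using this

theorem QuadExt.desc_core (hj : QuadExt σ j) {c₁ c₂ d₁ d₂ : Fˣ}
    (h₁ : (w : Matrix (Fin n) (Fin n) F)ᵀ * (S : Matrix (Fin n) (Fin n) F) * (w : Matrix (Fin n) (Fin n) F) =
      (c₁ : F) • upMat j A)
    (h₂ : (v : Matrix (Fin n) (Fin n) F)ᵀ * (T : Matrix (Fin n) (Fin n) F) * (v : Matrix (Fin n) (Fin n) F) =
      (c₂ : F) • upMat j B)
    (g₁ : (w : Matrix (Fin n) (Fin n) F).map σ =
      (d₁ : F) • ((S : Matrix (Fin n) (Fin n) F) * (w : Matrix (Fin n) (Fin n) F)))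
    (g₂ : (v : Matrix (Fin n) (Fin n) F).map σ =
      (d₂ : F) • ((T : Matrix (Fin n) (Fin n) F) * (v : Matrix (Fin n) (Fin n) F)))
    {P : GL (Fin n) F₀} {c : F₀}
    (hP : (P : Matrix (Fin n) (Fin n) F₀)ᵀ * A * (P : Matrix (Fin n) (Fin n) F₀) = c • B) (hc : c ≠ 0) :
    ((w * Matrix.GeneralLinearGroup.map j P * v⁻¹ : GL (Fin n) F) : Matrix (Fin n) (Fin n) F)ᵀ *
        (S : Matrix (Fin n) (Fin n) F) *
        ((w * Matrix.GeneralLinearGroup.map j P * v⁻¹ : GL (Fin n) F) : Matrix (Fin n) (Fin n) F) =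
      ((c₁ : F) * j c * ((c₂⁻¹ : Fˣ) : F)) • (T : Matrix (Fin n) (Fin n) F) ∧
    ((w * Matrix.GeneralLinearGroup.map j P * v⁻¹ : GL (Fin n) F) : Matrix (Fin n) (Fin n) F)ᵀ *
        ((w * Matrix.GeneralLinearGroup.map j P * v⁻¹ : GL (Fin n) F) : Matrix (Fin n) (Fin n) F).map σ =
      ((d₁ : F) * ((d₂⁻¹ : Fˣ) : F) * ((c₁ : F) * j c * ((c₂⁻¹ : Fˣ) : F))) • 1 := by
  set k : GL (Fin n) F := w * Matrix.GeneralLinearGroup.map j P * v⁻¹ with hkdef
  set km := (k : Matrix (Fin n) (Fin n) F) with hkm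
  have hkv : km * (v : Matrix (Fin n) (Fin n) F) = (w : Matrix (Fin n) (Fin n) F) * upMat j (P : Matrix (Fin n) (Fin n) F₀) := by
    rw [hkm, ← Units.val_mul, hkdef, inv_mul_cancel_right]
    rfl
  have cancelR : ∀ X Y : Matrix (Fin n) (Fin n) F,
      X * (v : Matrix (Fin n) (Fin n) F) = Y * (v : Matrix (Fin n) (Fin n) F) → X = Y := fun X Y h => by
    have := congrArg (fun M => M * ((v⁻¹ : GL (Fin n) F) : Matrix (Fin n) (Fin n) F)) h
    simpa [mul_assoc, ← Units.val_mul] using this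
  have cancelL : ∀ X Y : Matrix (Fin n) (Fin n) F,
      (v : Matrix (Fin n) (Fin n) F)ᵀ * X = (v : Matrix (Fin n) (Fin n) F)ᵀ * Y → X = Y := fun X Y h => by
    have := congrArg (fun M => ((v⁻¹ : GL (Fin n) F) : Matrix (Fin n) (Fin n) F)ᵀ * M) h
    simpa [← mul_assoc, ← transpose_mul, ← Units.val_mul] using this
  set u : Fˣ := c₁ * Units.mk0 (j c) ((map_ne_zero j).mpr hc) * c₂⁻¹ with hu
  have hkS : kmᵀ * (S : Matrix (Fin n) (Fin n) F) * km = (u : F) • (T : Matrix (Fin n) (Fin n) F) := by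
    refine cancelR _ _ (cancelL _ _ ?_)
    calc (v : Matrix (Fin n) (Fin n) F)ᵀ * (kmᵀ * (S : Matrix (Fin n) (Fin n) F) * km * (v : Matrix (Fin n) (Fin n) F))
        = (upMat j (P : Matrix (Fin n) (Fin n) F₀))ᵀ * ((w : Matrix (Fin n) (Fin n) F)ᵀ * (S : Matrix (Fin n) (Fin n) F) *
            (w : Matrix (Fin n) (Fin n) F)) * upMat j (P : Matrix (Fin n) (Fin n) F₀) := by
          have e := congrArg Matrix.transpose hkv
          rw [transpose_mul, transpose_mul] at e
          rw [mul_assoc (kmᵀ * _) km, hkv, ← mul_assoc, ← mul_assoc, ← mul_assoc, e]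
          simp only [mul_assoc]
      _ = ((c₁ : F) * j c) • upMat j B := by
          rw [h₁, mul_smul_comm, smul_mul_assoc, ← upMat_transpose, ← upMat_mul, ← upMat_mul, hP, upMat_smul, smul_smul]
      _ = _ := by
          rw [smul_mul_assoc, mul_smul_comm, ← mul_assoc, h₂, smul_smul, hu]
          congr 1
          rw [Units.val_mul, Units.val_mul, Units.val_mk0, Units.inv_mul_cancel_right]
  set r : Fˣ := d₁ * d₂⁻¹ with hr
  have hkT : km.map σ * (T : Matrix (Fin n) (Fin n) F) = (r : F) • ((S : Matrix (Fin n) (Fin n) F) * km) := by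
    refine cancelR _ _ ?_
    have h3 := congrArg (fun M => M.map σ) hkv
    simp only [map_mul', hj.upMat_fixed, g₁, g₂, mul_smul_comm, smul_mul_assoc] at h3
    have h4 := congrArg (fun M => ((d₂⁻¹ : Fˣ) : F) • M) h3
    simp only [smul_smul, Units.inv_mul, one_smul] at h4
    rw [mul_assoc, h4, smul_mul_assoc, mul_assoc _ km, hkv, ← mul_assoc, hr, Units.val_mul, mul_comm (d₁ : F)]
  set e : Fˣ := r * u with he
  have hkk : kmᵀ * km.map σ = (e : F) • 1 := by
    have h5 : kmᵀ * km.map σ * (T : Matrix (Fin n) (Fin n) F) = (e : F) • (T : Matrix (Fin n) (Fin n) F) := by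
      rw [mul_assoc, hkT, mul_smul_comm, ← mul_assoc, hkS, smul_smul, he, Units.val_mul]
      simp [r]
    have := congrArg (fun M => M * ((T⁻¹ : GL (Fin n) F) : Matrix (Fin n) (Fin n) F)) h5
    simpa [mul_assoc, smul_mul_assoc, ← Units.val_mul] using this
  refine ⟨?_, ?_⟩
  · rw [hkS, hu]; simp
  · rw [hkk, he, hr, hu]; simp

/-- From congruences over `F₀` to unitary congruences. -/
theorem QuadExt.desc_from (hj : QuadExt σ j) [NeZero n] (hS : Desc σ j S A w) (hT : Desc σ j T B v)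
    {P : GL (Fin n) F₀} {c : F₀}
    (hP : (P : Matrix (Fin n) (Fin n) F₀)ᵀ * A * (P : Matrix (Fin n) (Fin n) F₀) = c • B) (hc : c ≠ 0) :
    ∃ k : GL (Fin n) F, IsUnit' σ k ∧ ∃ u : Fˣ, (k : Matrix (Fin n) (Fin n) F)ᵀ *
      (S : Matrix (Fin n) (Fin n) F) * (k : Matrix (Fin n) (Fin n) F) = (u : F) • (T : Matrix (Fin n) (Fin n) F) := by
  obtain ⟨⟨c₁, h₁⟩, d₁, g₁⟩ := hS
  obtain ⟨⟨c₂, h₂⟩, d₂, g₂⟩ := hT
  obtain ⟨hk1, hk2⟩ := hj.desc_core h₁ h₂ g₁ g₂ hP hc
  set k₀ := w * Matrix.GeneralLinearGroup.map j P * v⁻¹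
  set e := (d₁ : F) * ((d₂⁻¹ : Fˣ) : F) * ((c₁ : F) * j c * ((c₂⁻¹ : Fˣ) : F))
  have he0 : e ≠ 0 := by simp [e, hc]
  have hefix := hj.fixed_of_gram hk2
  obtain ⟨ν, hν⟩ := hj.exists_norm (a := e⁻¹) (by rw [map_inv₀, hefix]) (inv_ne_zero he0)
  refine ⟨Matrix.GeneralLinearGroup.scalar (Fin n) ν * k₀, ?_, ν * ν * (c₁ * Units.mk0 (j c) ((map_ne_zero j).mpr hc) * c₂⁻¹), ?_⟩
  · show _ᵀ * Matrix.map _ σ = 1
    rw [Units.val_mul, coe_scalar, smul_mul_assoc, one_mul, transpose_smul, map_smul', smul_mul_assoc, mul_smul_comm,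
      hk2, smul_smul, smul_smul, hν, inv_mul_cancel₀ he0, one_smul]
  · rw [Units.val_mul, coe_scalar, smul_mul_assoc, one_mul, transpose_smul, smul_mul_assoc, smul_mul_assoc,
      mul_smul_comm, hk1, smul_smul, smul_smul]
    simp

/-- Unitary congruences come from congruences over `F₀`. -/
theorem QuadExt.desc_to (hj : QuadExt σ j) [NeZero n] (hS : Desc σ j S A w) (hT : Desc σ j T B v)
    {k : GL (Fin n) F} {e u : Fˣ}
    (hk : (k : Matrix (Fin n) (Fin n) F)ᵀ * (k : Matrix (Fin n) (Fin n) F).map σ = (e : F) • 1)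
    (hu : (k : Matrix (Fin n) (Fin n) F)ᵀ * (S : Matrix (Fin n) (Fin n) F) * (k : Matrix (Fin n) (Fin n) F) =
      (u : F) • (T : Matrix (Fin n) (Fin n) F)) :
    ∃ (P : GL (Fin n) F₀) (c : F₀ˣ) (μ : Fˣ),
      (P : Matrix (Fin n) (Fin n) F₀)ᵀ * A * (P : Matrix (Fin n) (Fin n) F₀) = (c : F₀) • B ∧
      k = Matrix.GeneralLinearGroup.scalar (Fin n) μ * (w * Matrix.GeneralLinearGroup.map j P * v⁻¹) := by
  obtain ⟨⟨c₁, h₁⟩, d₁, g₁⟩ := hS
  have hB := Desc.det_ne_zero hT
  obtain ⟨⟨c₂, h₂⟩, d₂, g₂⟩ := hT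
  set km := (k : Matrix (Fin n) (Fin n) F) with hkm
  set wm := (w : Matrix (Fin n) (Fin n) F) with hwm
  set vm := (v : Matrix (Fin n) (Fin n) F) with hvm
  have hkT : km.map σ * (T : Matrix (Fin n) (Fin n) F) =
      ((e * u⁻¹ : Fˣ) : F) • ((S : Matrix (Fin n) (Fin n) F) * km) := by
    have h5 : kmᵀ * (km.map σ * (T : Matrix (Fin n) (Fin n) F)) =
        kmᵀ * (((e * u⁻¹ : Fˣ) : F) • ((S : Matrix (Fin n) (Fin n) F) * km)) := by
      rw [← mul_assoc, hk, smul_mul_assoc, one_mul, mul_smul_comm, ← mul_assoc, hu, smul_smul, Units.val_mul,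
        Units.inv_mul_cancel_right]
    have := congrArg (fun M => ((k⁻¹ : GL (Fin n) F) : Matrix (Fin n) (Fin n) F)ᵀ * M) h5
    simp only [← mul_assoc, ← transpose_mul, hkm] at this
    rw [← Units.val_mul, mul_inv_cancel, Units.val_one, transpose_one, one_mul, one_mul] at this
    exact this
  set P₀ : GL (Fin n) F := w⁻¹ * k * v with hP₀
  set Pm := (P₀ : Matrix (Fin n) (Fin n) F) with hPm
  have hwP : wm * Pm = km * vm := by
    rw [hwm, hPm, hkm, hvm, ← Units.val_mul, ← Units.val_mul, hP₀, mul_assoc w⁻¹, mul_inv_cancel_left]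
  set r : Fˣ := d₂ * (e * u⁻¹) * d₁⁻¹ with hr
  have hσP : Pm.map σ = (r : F) • Pm := by
    have h3 := congrArg (fun M => M.map σ) hwP
    simp only [map_mul'] at h3
    rw [g₁, g₂, mul_smul_comm, ← mul_assoc, hkT, smul_mul_assoc, smul_mul_assoc, smul_smul, mul_assoc _ km, ← hwP,
      mul_assoc] at h3
    have h4 := congrArg (fun M => ((d₁⁻¹ : Fˣ) : F) •
      (((w⁻¹ : GL (Fin n) F) : Matrix (Fin n) (Fin n) F) * (((S⁻¹ : GL (Fin n) F) : Matrix (Fin n) (Fin n) F) * M))) h3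
    simp only [mul_smul_comm, smul_smul, ← mul_assoc, hwm, ← Units.val_mul, inv_mul_cancel, Units.val_one, one_mul,
      one_smul, inv_mul_cancel_right] at h4
    rw [h4]
    congr 1
    simp [r]
    ring
  obtain ⟨μ, hμ⟩ := hj.hilbert90 r (by
    have h := congrArg (fun M => M.map σ) hσP
    rw [Matrix.map_map, show (σ : F → F) ∘ (σ : F → F) = id from funext hj.invol, Matrix.map_id, map_smul', hσP,
      smul_smul] at h
    have hP0 : Pm ≠ 0 := fun h0 => Matrix.GeneralLinearGroup.det_ne_zero P₀ (by rw [← hPm, h0, det_zero])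
    rw [mul_comm]
    refine (smul_left_injective F hP0 ?_).symm
    simpa using h)
  obtain ⟨P', hP'⟩ := hj.exists_down (M := (μ : F) • Pm) (by
    rw [map_smul', hσP, smul_smul, mul_comm, hμ])
  have hP'det : P'.det ≠ 0 := by
    intro h0
    have := congrArg Matrix.det hP'
    rw [det_upMat, h0, map_zero, det_smul] at this
    exact mul_ne_zero (pow_ne_zero _ μ.ne_zero) (Matrix.GeneralLinearGroup.det_ne_zero P₀) this.symm
  have hPA : upMat j (P'ᵀ * A * P') = ((μ * μ * (u * c₂ * c₁⁻¹) : Fˣ) : F) • upMat j B := by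
    have h6 : upMat j A = ((c₁⁻¹ : Fˣ) : F) • (wmᵀ * (S : Matrix (Fin n) (Fin n) F) * wm) := by
      rw [h₁, smul_smul, ← Units.val_mul, inv_mul_cancel, Units.val_one, one_smul]
    rw [upMat_mul, upMat_mul, upMat_transpose, hP', h6, transpose_smul]
    calc _ = ((μ * μ * c₁⁻¹ : Fˣ) : F) • ((wm * Pm)ᵀ * (S : Matrix (Fin n) (Fin n) F) * (wm * Pm)) := by
          simp only [smul_mul_assoc, mul_smul_comm, smul_smul, transpose_mul, mul_assoc, Units.val_mul]
          congr 1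
          ring
      _ = _ := by
          rw [hwP, transpose_mul, show vmᵀ * kmᵀ * (S : Matrix (Fin n) (Fin n) F) * (km * vm) =
            vmᵀ * (kmᵀ * (S : Matrix (Fin n) (Fin n) F) * km) * vm by simp only [mul_assoc], hu, mul_smul_comm,
            smul_mul_assoc, h₂, smul_smul, smul_smul]
          simp only [Units.val_mul]
          congr 1
          ring
  obtain ⟨c, hc⟩ : ∃ c : F₀, j c = ((μ * μ * (u * c₂ * c₁⁻¹) : Fˣ) : F) := by
    obtain ⟨a, b, hab⟩ : ∃ a b, B a b ≠ 0 := by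
      by_contra h
      push Not at h
      exact hB (by rw [show B = 0 from Matrix.ext h, det_zero])
    refine ⟨(P'ᵀ * A * P') a b / B a b, ?_⟩
    have h7 : j ((P'ᵀ * A * P') a b) = ((μ * μ * (u * c₂ * c₁⁻¹) : Fˣ) : F) * j (B a b) :=
      congrFun (congrFun hPA a) b
    rw [map_div₀, h7, mul_div_cancel_right₀ _ ((map_ne_zero j).mpr hab)]
  have hc0 : c ≠ 0 := fun h0 => Units.ne_zero _ (by rw [← hc, h0, map_zero])
  refine ⟨Matrix.GeneralLinearGroup.mkOfDetNeZero P' hP'det, Units.mk0 c hc0, μ⁻¹, ?_, ?_⟩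
  · refine upMat_injective (j := j) ?_
    rw [Units.val_mk0, upMat_smul, hc]
    exact hPA
  · have hmap : Matrix.GeneralLinearGroup.map j (Matrix.GeneralLinearGroup.mkOfDetNeZero P' hP'det) =
        Matrix.GeneralLinearGroup.scalar (Fin n) μ * P₀ := Units.ext (by
      rw [Units.val_mul, coe_scalar, smul_mul_assoc, one_mul]
      exact hP')
    rw [hmap, ← mul_assoc w, ← CfsgLib.AutPSL.scalar_comm, mul_assoc _ w, hP₀, mul_assoc w⁻¹, mul_inv_cancel_left, mul_assoc,
      mul_inv_cancel_right, ← mul_assoc, ← map_mul, inv_mul_cancel, map_one, one_mul]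

end CfsgLib.GraphInv
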